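import Cfsg.Agent.Lib.Wal.K3
import Cfsg.Agent.Lib.SE.Sol
import Cfsg.Agent.Lib.W4.Main

/-!
# The case of rank at least 4 of Walter's theorem
-/

set_option autoImplicit false

namespace Cfsg.Agent.Wal

universe u

theorem solSE (jr : R1.JR.{u}) : SolSE.{u} := SE.sol jr

theorem ks (jr : R1.JR.{u}) : W4.KS.{u} := ks_of (solSE jr)

theorem w4 (jr : R1.JR.{u}) : R1.W4.{u} := W4.w4 (ks jr)

end Cfsg.Agent.Wal
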