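import Cfsg.Agent.Lib.Wal.K1

/-!
# Components of groups with abelian Sylow 2-subgroups and trivial odd core
-/

set_option autoImplicit false

namespace Cfsg.Agent.Wal

open Subgroup Cfsg.Agent.OO Cfsg.Agent.Coprime Cfsg.Agent.GW
open scoped commutatorElement Pointwise

universe u

variable {G : Type u} [Group G] [Finite G] {K L N S X Y Γ : Subgroup G} {g w : G}

theorem syl_inf_of_subnormal {p : ℕ} [Fact p.Prime] (hS : Syl p S X) (h : Core.SubnormalIn N X) :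
    Syl p (S ⊓ N) N :=
  h.induction (P := fun N => Syl p (S ⊓ N) N) (by rwa [inf_eq_left.2 hS.le]) fun A B h1 h2 _ h3 => by
    have := h3.inf_normal ⟨h1, h2⟩
    rwa [inf_assoc, inf_eq_right.2 h1] at this

/-- the `Z*` theorem: an abelian Sylow 2-subgroup is `(S ⊓ Γ') Z` -/
theorem le_der_sup_cent (hO : O Γ = ⊥) (hS : Syl 2 S Γ) (ha : Ab S) :
    S ≤ S ⊓ der Γ ⊔ S ⊓ 𝐂(Γ) := by
  obtain ⟨E, hE, hE'⟩ := hS.syl_norm.hall.exists_sdprod inf_le_right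
  have h1 := E8.le_center_of_isolated Γ (S.subgroupOf Γ) ((S ⊓ 𝐂(E)).subgroupOf Γ) (fun N _ hN => by
    rw [← map_eq_bot_iff_of_injective N Γ.subtype_injective, eq_bot_iff, ← hO]
    exact le_O (normalIn_map_subtype N) (by
      rw [card_map_of_injective Γ.subtype_injective]; exact Nat.odd_iff.2 (by omega)))
    (syl_subgroupOf hS) (subgroupOf_mono _ inf_le_left) fun c hc g hg => by
      obtain ⟨n, hn, e⟩ := W3.fusion hS ha hc.1 g.2 hg
      exact Subtype.ext (e.symm.trans (mem_cent1_iff_conj.1 (le_cent1_iff.2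
        ((le_cent_sup (inf_le_left.trans ha.le_cent) inf_le_right).trans
          (cent_anti hE.sup_eq.ge) hc) hn)))
  have h2 := hE'.le.trans inf_le_right
  refine (coprime_cent_prod h2 (hS.piGrp.coprime hE'.piGrp) (.inl hS.sol)).ge.trans (sup_le_sup
    (le_inf (commutator_le_left' h2) (commutator_mono hS.le (hE'.le.trans inf_le_left)))
    fun x hx => ⟨hx.1, mem_cent_iff.2 fun y hy => congrArg Subtype.val
      (mem_center_iff.1 (h1 (show (⟨x, hS.le hx.1⟩ : Γ) ∈ _ from hx)) ⟨y, hy⟩)⟩)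

/-- `K` is a component of `X` -/
def Cmp (X K : Subgroup G) : Prop := Core.SubnormalIn K X ∧ IsQuasisimple K

omit [Finite G] in
theorem Cmp.le (h : Cmp X K) : K ≤ X := h.1.le

omit [Finite G] in
theorem Cmp.conj (h : Cmp X K) (hg : g ∈ X) : Cmp X (g •ᶜ K) :=
  ⟨h.1.map_conj_of_mem (le_norm_self X hg),
    (Core.isQuasisimple_map_iff_of_injective (MulAut.conj g).injective).2 h.2⟩

omit [Finite G] in
theorem Cmp.der_eq (h : Cmp X K) : der K = K := Core.commutator_eq_of_isQuasisimple h.2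

omit [Finite G] in
theorem Cmp.not_ab (h : Cmp X K) : ¬ Ab K := Core.not_isMulCommutative_of_isQuasisimple h.2

omit [Finite G] in
theorem Cmp.cent (h : Cmp X K) (h' : Cmp X L) (hne : K ≠ L) : K ≤ 𝐂(L) :=
  (h.1.le_or_le_centralizer_of_isQuasisimple h.2 h'.1).resolve_left fun e => hne
    (((h.1.of_le e h'.le).le_centralizer_or_eq_of_isQuasisimple h'.2).resolve_left fun e' =>
      h.not_ab (ab_iff_le_cent.2 (e'.trans (cent_anti e))))

omit [Finite G] in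
theorem lay_normal (X : Subgroup G) : sSup {K | Cmp X K} ⊴ X :=
  ⟨sSup_le fun _ h => h.le, le_norm_sSup fun _ hg _ h => Cmp.conj h hg⟩

theorem mem_Fit (hg : g ∈ X) (h1 : g ∈ 𝐂(Fit X)) (h2 : ∀ K, Cmp X K → g ∈ 𝐂(K)) : g ∈ Fit X := by
  refine ⟨⟨g, hg⟩, Core.centralizer_generalizedFitting_le_fitting ?_, rfl⟩
  refine le_cent1_iff.1 (sup_le (Core.layer_le fun K hK x hx => ?_) fun x hx => ?_)
  · exact mem_cent1.2 (Subtype.ext (mem_cent_iff.1 (h2 (K.map X.subtype)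
      ⟨Core.subnormalIn_map_subtype_iff.2 hK.1,
        (Core.isQuasisimple_map_iff_of_injective X.subtype_injective).2 hK.2⟩) x ⟨x, hx, rfl⟩))
  · exact mem_cent1.2 (Subtype.ext (mem_cent_iff.1 h1 x ⟨x, hx, rfl⟩))

/-- `S` is an abelian Sylow 2-subgroup of `X` and `O(X) = 1` -/
structure Bar (X S : Subgroup G) : Prop where
  O_eq : O X = ⊥
  syl : Syl 2 S X
  ab : Ab S

namespace Bar

variable (h : Bar X S)
include h

theorem ab_two (P : Subgroup G) (hP : P ≤ X) (h2 : IsPGroup 2 P) : Ab P := by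
  obtain ⟨g, -, e⟩ := h.syl.exists_conj_le hP h2
  exact ab_conj.1 (ab_of_le h.ab e)

theorem eq_bot (hN : Core.SubnormalIn N X) (ho : Odd ♯N) : N = ⊥ :=
  eq_bot_iff.2 (h.O_eq ▸ hN.le_piCoreOf fun _ _ hp e => ho.not_two_dvd_nat (e ▸ hp))

theorem le_sup (hN : Core.SubnormalIn N X) (hn : S ≤ 𝐍(N)) : S ≤ S ⊓ N ⊔ S ⊓ 𝐂(N) := by
  have h1 : N ⊴ N ⊔ S := ⟨le_sup_left, sup_le (le_norm_self N) hn⟩
  have h2 := h.syl.mono le_sup_right (sup_le hN.le h.syl.le)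
  have h3 : O (N ⊔ S) ≤ N := fun x hx => Core.mem_of_coprime_of_mem_sup hn (Opi_le _ _ hx)
    (((Op'_piGrp 2 _).piElt hx).coprime' h.syl.piGrp)
  refine (le_der_sup_cent (h.eq_bot ((Core.subnormalIn_of_le_normalizer h3
    (le_sup_left.trans (O_norm _))).trans hN) (odd_O _)) h2 h.ab).trans
    (sup_le_sup (inf_le_inf_left _ ?_) (inf_le_inf_left _ (cent_anti le_sup_left)))
  refine (ab_quo_iff h1.norm).1 ?_
  rw [quo_self_sup hn]
  exact ab_quo_of_der_le ((commutator_eq_bot_iff_le_centralizer.2 h.ab.le_cent).le.trans bot_le)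

theorem mem_Op (hg : g ∈ X) (h1 : g ∈ 𝐂(Op 2 X)) (h2 : ∀ K, Cmp X K → g ∈ 𝐂(K)) : g ∈ Op 2 X := by
  rw [← Fit_eq_Op h.O_eq] at h1 ⊢
  exact mem_Fit hg h1 h2

theorem two (hg : g ∈ X) (h2 : PiElt {2} g) : g ∈ S ⊔ sSup {K | Cmp X K} := by
  have h1 := lay_normal X
  have h3 := (Op_normal 2 X).sup h1
  have h4 : S ≤ Op 2 X ⊔ sSup {K | Cmp X K} :=
    (h.le_sup (Core.subnormalIn_of_le_normalizer h1.le h1.norm) (h.syl.le.trans h1.norm)).trans
      (sup_le (inf_le_right.trans le_sup_right) fun x hx => mem_sup_left (h.mem_Op (h.syl.le hx.1)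
        (cent_anti (Op_le_syl h.syl) (h.ab.le_cent hx.1)) fun K hK => cent_anti (le_sSup hK) hx.2))
  obtain ⟨x, hx, e⟩ := h.syl.exists_le_conj' (zpowers_le.2 hg) (isPGroup_zpowers_iff.2 h2)
  exact sup_le_sup_right (Op_le_syl h.syl) _
    ((conj_mono x h4).trans (conj_eq_self_iff.2 (h3.norm hx)).le (e (mem_zpowers g)))

theorem odd_eq_bot (hY : Y ≤ X) (ho : Odd ♯Y) (hn : S ≤ 𝐍(Y)) (hc : ∀ K, Cmp X K → Y ≤ 𝐂(K)) :
    Y = ⊥ := by
  have h1 := (odd_iff.1 ho).coprime' (Op_piGrp 2 X)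
  exact eq_bot_iff.2 (inf_eq_bot_of_coprime_card h1 ▸ le_inf le_rfl fun y hy => h.mem_Op (hY hy)
    (le_cent_of_coprime (hY.trans (Op_normal 2 X).norm) ((Op_le_syl h.syl).trans hn) h1 hy)
    fun K hK => hc K hK hy)

variable (hK : Cmp X K)
include hK

theorem syl_inf : Syl 2 (S ⊓ K) K := syl_inf_of_subnormal h.syl hK.1

theorem Zc_eq : Zc K = ⊥ :=
  h.eq_bot ((Core.subnormalIn_of_le_normalizer (Zc_le K) (Zc_normal K).norm).trans hK.1)
    (odd_of_forall fun a ha a2 => eq_one_of_mem_Zc (ab_of_le h.ab (inf_le_left : S ⊓ K ≤ S)) ha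
      (hK.der_eq.ge ha.1) ((Nat.prime_two.coprime_iff_not_dvd.2 (h.syl_inf hK).not_dvd).coprime_dvd_left
        (orderOf_dvd_of_pow_eq_one (by rwa [sq]))))

theorem smp : Smp K := fun _ hN =>
  (Core.le_centralizer_or_eq_of_isQuasisimple hK.2 hN.le hN.norm).imp_left fun e => eq_bot_iff.2 (h.Zc_eq hK ▸ le_inf hN.le e)

theorem even : 2 ∣ ♯K := by_contra fun e => hK.not_ab
  (h.eq_bot hK.1 (Nat.odd_iff.2 (by omega)) ▸ ab_bot)

theorem mem_norm (hg : g ∈ X) (hw : w ∈ K) (w1 : w ≠ 1) (e : g * w * g⁻¹ ∈ K) : g ∈ 𝐍(K) :=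
  conj_eq_self_iff.1 (by_contra fun hne => conj_ne_one.2 w1 (mem_bot.1 ((h.Zc_eq hK).le
    ⟨e, (hK.conj hg).cent hK hne (conj_mem_conj hw)⟩)))

theorem norm2 (hg : g ∈ X) (h2 : PiElt {2} g) : g ∈ 𝐍(K) := by
  obtain ⟨T, hT, e⟩ := exists_syl_ge (zpowers_le.2 hg) (isPGroup_zpowers_iff.2 h2)
  obtain ⟨w, hw, w1⟩ := exists_mem_ne_one ((syl_inf_of_subnormal hT hK.1).ne_bot (h.even hK))
  exact h.mem_norm hK hg hw.2 w1 ((mem_cent_iff_conj.1
    ((h.ab_two T hT.le hT.isPGroup).le_cent (e (mem_zpowers g))) w hw.1).symm ▸ hw.2)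

theorem le_norm : S ≤ 𝐍(K) := fun _ hx => h.norm2 hK (h.syl.le hx) (h.syl.piGrp.piElt hx)

theorem normO (hY : Y ≤ X) (ho : Odd ♯Y) (hn : S ≤ 𝐍(Y)) : Y ≤ 𝐍(K) := fun y hy => by
  obtain ⟨w, hw, w1, w2⟩ := R1.exists_invol_mem ((h.syl_inf hK).dvd_card_iff.2 (h.even hK))
  by_contra e
  have h1 := mem_cent_iff.1 ((hK.conj (hY hy)).cent hK (conj_eq_self_iff.not.2 e)
    (conj_mem_conj hw.2)) w hw.2
  have h2 : w * (y * w * y⁻¹) = 1 := eq_one_of_odd_of_sq (odd_of_mem ho (by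
    have := mul_mem (conj_mem_of_norm (hn hw.1) hy) (inv_mem hy)
    rwa [inv_eq w2, mul_assoc, mul_assoc, ← mul_assoc y] at this)) (by
      rw [(show Commute _ _ from h1.symm).mul_mul_mul_comm, w2, conj_sq w2, one_mul])
  exact e (h.mem_norm hK (hY hy) hw.2 w1 (eq_inv_of_mul_eq_one_right h2 ▸ inv_mem hw.2))

theorem sf (hs : SolSE.{u}) (ih : R1.KHyp.{u} (♯X + 1)) : SF K (S ⊓ K) :=
  Wal.sf hs (h.smp hK) hK.not_ab (fun P hP => h.ab_two P (hP.trans hK.le))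
    (fun Y _ _ e => ih Y (e.trans_le (Nat.succ_le_succ (card_le hK.le)))) (h.syl_inf hK)

theorem le_cent (hF : SF K (S ⊓ K)) (hc : ∀ w ∈ S ⊓ K, w ≠ 1 → K ⊓ 𝐂[w] ≤ S ⊓ K) (hY : Y ≤ X)
    (ho : Odd ♯Y) (hn : S ≤ 𝐍(Y)) : Y ≤ 𝐂(K) := fun y hy => by
  have h0 := h.normO hK hY ho hn
  have ha := ab_of_le h.ab (inf_le_left : S ⊓ K ≤ S)
  have h1 := (odd_iff.1 ho).coprime' (h.syl_inf hK).piGrp
  have h2 : Y ≤ 𝐍(S ⊓ K) := coprime_abelian_gen_cent1 ha (fun e => by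
    obtain ⟨x, hx⟩ := e
    have h3 := orderOf_le_of_pow_eq_one two_pos (Subtype.ext (by
      simpa [sq] using hF.sq x x.2) : x ^ 2 = 1)
    have := hF.four
    rw [orderOf_eq_card_of_forall_mem_zpowers hx] at h3
    omega) (inf_le_left.trans hn) h1 fun w hw w1 => by
      rw [← (hc w hw w1).antisymm (le_inf inf_le_right (ha.le_cent.trans (cent_le_cent1 hw)))]
      exact le_norm_inf (inf_le_left.trans h0) (inf_le_right.trans (le_norm_self _))
  obtain ⟨w, hw, e⟩ := rigid (h.smp hK) hK.not_ab (h.syl_inf hK) ha hc (h0 hy)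
    (le_cent_of_coprime h2 (inf_le_left.trans hn) h1 hy)
  refine mem_of_sq_mem_of_odd ho hy ?_
  have h3 := mem_cent_iff.1 e w hw.2
  rw [mul_inv_cancel_left, inv_eq (hF.sq w hw)] at h3
  rw [inv_eq (hF.sq w hw)] at e
  convert mul_mem e e using 1
  rw [← mul_assoc, ← h3, sq]

end Bar

end Cfsg.Agent.Wal
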