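import Cfsg.Agent.Lib.Wal.K2
import Cfsg.Agent.Lib.W4.Defs

/-!
# Lifts of the components of `H / O(H)`
-/

set_option autoImplicit false

namespace Cfsg.Agent.Wal

open Subgroup Cfsg.Agent.OO Cfsg.Agent.Coprime Cfsg.Agent.GW
open scoped commutatorElement Pointwise

universe u

variable {G : Type u} [Group G] [Finite G] {A B H L N S W : Subgroup G} {g x y : G}

theorem exists_norm_lift (hL : L ≤ 𝐍(N)) (ho : Odd ♯N) (hW : W ≤ L) (h2 : IsPGroup 2 W) (hg : g ∈ L)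
    (h : coset N g ∈ 𝐍(W ⁒ N)) : ∃ k ∈ L ⊓ 𝐍(W), coset N k = coset N g := by
  have h0 : W ≤ 𝐍(N ⊓ L) := le_norm_inf (hW.trans hL) (le_norm_of_le hW)
  have h1 : Syl 2 W (W ⊔ N ⊓ L) := ⟨le_sup_left, h2, by
    rw [relIndex_sup_eq' (.inl h0)]
    exact fun e => (odd_of_le ho inf_le_left).not_two_dvd_nat (e.trans (relIndex_dvd_card _ _))⟩
  have h3 : g ∈ 𝐍(W ⊔ N ⊓ L) := by
    rw [← sup_inf_of_le_left (.inl (hW.trans hL)) hW]
    exact zpowers_le.1 (le_norm_inf (le_norm_sup_of_quo (zpowers_le.2 (hL hg)) (hW.trans hL)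
      (by rwa [quo_zpowers (hL hg), zpowers_le])) (le_norm_of_le (zpowers_le.2 hg)))
  obtain ⟨y, hy, e⟩ := h1.exists_conj' (h1.conj_of_norm h3)
  obtain ⟨n, hn, w, hw, rfl⟩ := (mem_sup_norm_left h0).1 (sup_comm W _ ▸ hy)
  refine ⟨n⁻¹ * g, ⟨L.mul_mem (L.inv_mem hn.2) hg, conj_eq_self_iff.1 ?_⟩,
    coset_mul_of_mem' (inv_mem hn.1) (hL hg)⟩
  rw [← conj_conj, e, conj_conj, inv_mul_cancel_left, conj_eq_of_mem hw]

/-- `L` is a lift of the component `K` -/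
structure Lift (N S : Subgroup G) (K : Subgroup (Coset N)) (L : Subgroup G) : Prop where
  le : L ≤ quoPre N K
  cent : L ≤ 𝐂(S ⊓ quoPre N 𝐂(K))
  ge : S ⊓ quoPre N K ≤ L
  eq : L ⁒ N = K
  min : ∀ L', S ⊓ quoPre N K ≤ L' → L' ⁒ N = K → L' ≤ L → L' = L

section

variable (hS : Syl 2 S H) (ha : Ab S)
include hS

theorem syl_norm_O : S ≤ 𝐍(O H) := hS.le.trans (O_norm H)

theorem coprime_O : (♯(O H)).Coprime ♯S := (Op'_piGrp 2 H).coprime' hS.piGrp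

theorem coset_inj (hx : x ∈ S) (hy : y ∈ S) (e : coset (O H) x = coset (O H) y) : x = y :=
  inv_mul_eq_one.1 (mem_bot.1 ((inf_eq_bot_of_coprime_card (coprime_O hS)).le
    ⟨(coset_eq_iff (syl_norm_O hS hx) (syl_norm_O hS hy)).1 e, S.mul_mem (S.inv_mem hx) hy⟩))

include ha

theorem bar : Bar (H ⁒ O H) (S ⁒ O H) := ⟨O_quo H, hS.quo (O_norm H), ab_quo ha _⟩

theorem exists_lift (K : Subgroup (Coset (O H))) : ∃ L, Lift (O H) S K L := by
  obtain ⟨L, h1, h2, h3⟩ := Core.exists_minimal_le (P := fun L => S ⊓ quoPre (O H) K ≤ L ∧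
    L ⁒ O H = K) (H := quoPre (O H) K ⊓ 𝐂(S ⊓ quoPre (O H) 𝐂(K))) ⟨le_inf inf_le_right
      (le_cent_mono ha.le_cent inf_le_left inf_le_left), by
    rw [quo_inf_cent (le_quoPre K) (inf_le_left.trans (syl_norm_O hS))
      ((coprime_O hS).coprime_dvd_right (card_dvd inf_le_left)) (.inl (sol_of_odd (odd_O H))),
      quo_quoPre, inf_quoPre_quo, inf_eq_left]
    exact le_cent_symm inf_le_right⟩
  exact ⟨L, h1.trans inf_le_left, h1.trans inf_le_right, h2.1, h2.2, fun L' a b => h3 L' ⟨a, b⟩⟩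

variable (hA : ∀ x, x ∈ A ↔ x ∈ S ∧ x * x = 1) {K : Subgroup (Coset (O H))}
  (hK : Cmp (H ⁒ O H) K) (hF : SF K (S ⁒ O H ⊓ K)) (hL : Lift (O H) S K L)
include hA hF hL

omit ha in
theorem inf_eq : A ⊓ L = S ⊓ quoPre (O H) K :=
  le_antisymm (inf_le_inf (fun x hx => ((hA x).1 hx).1) hL.le) (le_inf (fun x hx => (hA x).2
    ⟨hx.1, coset_inj hS (mul_mem hx.1 hx.1) (one_mem _) (by
      rw [coset_mul (quoPre_le_norm K hx.2) (quoPre_le_norm K hx.2), coset_one]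
      exact hF.sq _ ⟨coset_mem_quo _ hx.1, (mem_quoPre.1 hx.2).2⟩)⟩) hL.ge)

include hK

theorem Lift.cp : W4.Cp S A H L := by
  have hb := bar hS ha
  have hO := (Opi_normal _ H : O H ⊴ H)
  have hW := inf_eq hS hA hF hL
  have hWq := inf_quoPre_quo S K
  have hLH := hL.le.trans (quoPre_le_of_le hO hK.le)
  have hLN := hLH.trans hO.norm
  have hSN := syl_norm_O hS
  have hsup : L ⊔ O H = quoPre (O H) K := by rw [← quoPre_quo_eq_sup hLN, hL.eq]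
  have hb1 := hb.le_sup hK.1 (hb.le_norm hK)
  have h1 : S ≤ S ⊓ quoPre (O H) K ⊔ S ⊓ quoPre (O H) 𝐂(K) := fun x hx => by
    have := hb1 (coset_mem_quo _ hx)
    rw [← hWq, ← inf_quoPre_quo, ← quo_sup (inf_le_left.trans hSN) (inf_le_left.trans hSN)] at this
    obtain ⟨y, hy, -, e⟩ := mem_quo.1 this
    exact coset_inj hS ((sup_le inf_le_left inf_le_left : _ ≤ S) hy) hx e ▸ hy
  have h2 : ∀ Y ≤ H, Odd ♯Y → S ≤ 𝐍(Y) → Y ⁒ O H ≤ H ⁒ O H ∧ Odd ♯(Y ⁒ O H) ∧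
    S ⁒ O H ≤ 𝐍(Y ⁒ O H) := fun Y a b c => ⟨quo_mono _ a, odd_quo b _, quo_le_norm _ c⟩
  have h3 : ∀ w ∈ A ⊓ L, w ≠ 1 → coset (O H) w ∈ S ⁒ O H ⊓ K ∧ coset (O H) w ≠ 1 := fun w hw w1 =>
    ⟨hWq ▸ coset_mem_quo _ (hW ▸ hw),
      coset_ne_one (odd_O H) (hLN hw.2) w1 ((hA w).1 hw.1).2⟩
  refine ⟨⟨?_, fun a h => ?_, ?_, fun X k1 k2 => ?_⟩, hLH, ?_, fun x hx ⟨n, hn⟩ => ?_,
    fun Y a b c => ?_, fun Y a b c => ?_, fun M k1 k2 k3 => ?_⟩
  · have := hF.four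
    rwa [← hWq, card_quo_of_coprime (inf_le_left.trans hSN)
      ((coprime_O hS).coprime_dvd_right (card_dvd inf_le_left)), ← hW] at this
  · obtain ⟨w, hw, c, hc, rfl⟩ := (mem_sup_norm_left (le_norm_of_le_cent
      (le_cent_mono ha.le_cent inf_le_left inf_le_left))).1 (h1 ((hA a).1 h).1)
    rw [← hW] at hw
    exact mul_mem (mem_sup_left hw) (mem_sup_right
      ⟨(A.mul_mem_cancel_left hw.1).1 h, le_cent_symm hL.cent hc⟩)
  · obtain ⟨k, hk, t, hk'⟩ := hF.cyc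
    obtain ⟨g, hg, -, rfl⟩ := mem_quo.1 (hL.eq.ge hk.1)
    obtain ⟨k, hk, e⟩ := exists_norm_lift hLN (odd_O H) hL.ge (hS.isPGroup.to_le inf_le_left) hg
      (hWq ▸ hk.2)
    have hkS : k ∈ 𝐍(S) := by
      rw [h1.antisymm (sup_le inf_le_left inf_le_left)]
      exact mem_norm_sup hk.2 (cent_le_norm _ (hL.cent hk.1))
    refine ⟨k, hk.1, hkS, fun v hv w hw v1 w1 => ?_⟩
    obtain ⟨a, ha, e1⟩ := hk' _ (h3 v hv v1).1 (h3 v hv v1).2
    obtain ⟨b, hb, e2⟩ := hk' _ (h3 w hw w1).1 (h3 w hw w1).2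
    obtain ⟨j, hj⟩ := mem_powers_iff_mem_zpowers.2 (mul_mem hb (inv_mem ha))
    refine ⟨j, coset_inj hS (conj_mem_of_norm (pow_mem hkS j) ((hA v).1 hv.1).1)
      ((hA w).1 hw.1).1 ?_⟩
    rw [coset_conj (pow_mem (hLN hk.1) j) (hLN hv.2), coset_pow (hLN hk.1), e,
      show _ ^ j = _ from hj, ← e1, ← e2]
    group
  · have k3 : L ⊓ X ⊴ L := normalIn_inf_of_norm k2
    have k4 : S ⊓ quoPre (O H) K ≤ L ⊓ X := le_inf hL.ge (hW ▸ k1)
    refine (hL.min _ k4 ((hb.smp hK _ (hL.eq ▸ k3.quo _)).resolve_left fun e => ?_)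
      inf_le_left).ge.trans inf_le_right
    have := (card_le (hWq ▸ e ▸ quo_mono (O H) k4)).trans_lt' hF.four
    simp at this
  · rw [hsup]
    exact (inf_le_inf_right _ fun x hx => ((hA x).1 hx).1).trans hL.ge
  · have := hb.norm2 hK (coset_mem_quo _ hx) (PiElt.coset (isPGroup_zpowers_iff.1
      (Core.isPGroup_zpowers_of_pow_eq_one hn)) _)
    exact hsup ▸ ((quoPre_norm K).le (mem_quoPre.2 ⟨hO.norm hx, this⟩)).2
  · obtain ⟨a', b', c'⟩ := h2 Y a b c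
    exact hsup ▸ le_norm_quoPre (a.trans hO.norm) (hb.normO hK a' b' c')
  · rw [hsup] at a
    refine (quo_eq_bot_iff (a.trans (quoPre_le_norm K))).1 ((hb.smp hK _
      ⟨(quo_le_iff_le_quoPre (a.trans (quoPre_le_norm K))).2 a, hL.eq ▸ quo_le_norm _ c⟩).resolve_right
        fun e => (odd_quo b _).not_two_dvd_nat (e.symm ▸ hb.even hK))
  · refine (hF.dich (M ⁒ O H) (fun x hx => quo_mono _ k2 ?_) fun w hw w1 => ?_).imp
      (fun e => (quo_le_quo_iff hLN k1).1 (hL.eq ▸ e)) fun e Y a b c => ?_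
    · rw [← coprime_subnorm_quotient_pgroup hS.isPGroup hSN (coprime_O hS) hO.le]
      refine ⟨hK.le hx.1, ?_⟩
      rw [hb1.antisymm (sup_le inf_le_left inf_le_left)]
      exact mem_norm_sup hx.2 (cent_le_norm _ (le_cent_symm inf_le_right hx.1))
    · obtain ⟨w, hw', -, rfl⟩ := mem_quo.1 (hWq.ge hw)
      replace hw := hW.ge hw'
      refine le_trans ?_ (quo_mono _ (k3 w hw fun e => w1 (by rw [e, coset_one])))
      rw [quo_cent1_of_odd hO.norm (odd_O H) (hLH hw.2) ((hA w).1 hw.1).2]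
      exact inf_le_inf_right _ hK.le
    · obtain ⟨a', b', c'⟩ := h2 Y a b c
      exact (quo_le_cent_iff (a.trans hO.norm) hLN).1 (hL.eq ▸ hb.le_cent hK hF e a' b' c')

end

theorem ks_of (hs : SolSE.{u}) : W4.KS.{u} := by
  intro G _ _ S A H h2 ih hS hA hH hSH
  have ha := h2 S hS.isPGroup
  replace hS := hS.mono hSH le_top
  have hb := bar hS ha
  have hO := (Opi_normal _ H : O H ⊴ H)
  choose f hf using exists_lift hS ha
  have hF : ∀ K, Cmp (H ⁒ O H) K → SF K (S ⁒ O H ⊓ K) := fun K hK => hb.sf hK hs fun X _ _ e =>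
    ih X (e.trans_le ((card_quo_le H _).trans_lt (Core.card_lt_of_ne_top hH)))
  have hN : ∀ K, f K ≤ 𝐍(O H) := fun K => (hf K).le.trans (quoPre_le_norm K)
  refine ⟨f '' {K | Cmp (H ⁒ O H) K}, ?_, ?_, fun x hx ⟨n, hn⟩ => ?_, fun Y a b c d => ?_⟩
  · rintro _ ⟨K, hK, rfl⟩
    exact (hf K).cp hS ha hA hK (hF K hK)
  · rintro _ ⟨K, hK, rfl⟩ _ ⟨K', hK', rfl⟩ hne
    rw [inf_eq hS hA (hF K hK) (hf K)]
    exact (inf_le_inf_left _ (quoPre_mono (Cmp.cent hK hK' fun e => hne (e ▸ rfl)))).trans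
      (le_cent_symm (hf K').cent)
  · refine (coset_mem_quo_iff (hO.norm hx) (le_sup_left.trans le_sup_left)).1
      (sup_le (quo_mono _ (le_sup_right.trans le_sup_left)) (sSup_le fun K hK => ?_)
        (hb.two (coset_mem_quo _ hx) (PiElt.coset (isPGroup_zpowers_iff.1
          (Core.isPGroup_zpowers_of_pow_eq_one hn)) _)))
    exact (hf K).eq.ge.trans (quo_mono _ ((le_sSup (Set.mem_image_of_mem f hK)).trans le_sup_right))
  · exact (quo_eq_bot_iff (a.trans hO.norm)).1 (hb.odd_eq_bot (quo_mono _ a) (odd_quo b _)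
      (quo_le_norm _ c) fun K hK => (hf K).eq ▸
        (quo_le_cent_iff (a.trans hO.norm) (hN K)).2 (d _ ⟨K, hK, rfl⟩))

end Cfsg.Agent.Wal
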