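import Cfsg.Agent.Lib.W3.Base
import Cfsg.Agent.Lib.E8.Half

/-!
# Sylow 2-subgroups of the simple groups in the conclusion of Walter's theorem
-/

set_option autoImplicit false

namespace Cfsg.Agent.Wal

open Subgroup Cfsg.Agent.OO Cfsg.Agent.Coprime Cfsg.Agent.GW
open scoped commutatorElement Pointwise MatrixGroups

universe u

/-- strongly embedded subgroups are solvable -/
def SolSE : Prop := ∀ (G : Type u) [Group G] [Finite G] (M A : Subgroup G), IsSimpleGroup G →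
  R1.Ab2 G → R1.KHyp.{u} (Nat.card G) → IsElementaryAbelian 2 A → 8 ≤ Nat.card A → ZL.SE M →
  Group.IsSolvable M

variable {G : Type u} [Group G] [Finite G] {H K L M W : Subgroup G} {a b g k t : G}

omit [Finite G] in
theorem psl_facts {F : Type} [Field F] [Fintype F] (h5 : 5 ≤ Fintype.card F)
    (hm : Fintype.card F % 8 = 3 ∨ Fintype.card F % 8 = 5) (e : G ≃* PSL(2, F)) :
    IsSimpleGroup G ∧ ¬ IsMulCommutative G ∧ ¬ 8 ∣ Nat.card G := by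
  have h0 : ∃ a : F, a ≠ 0 ∧ a ^ 2 ≠ 1 := by
    obtain ⟨x, hx⟩ : IsCyclic Fˣ := inferInstance
    refine ⟨x, x.ne_zero, fun h => ?_⟩
    have h1 := orderOf_le_of_pow_eq_one zero_lt_two (Units.ext (by simpa using h) : x ^ 2 = 1)
    rw [orderOf_eq_card_of_forall_mem_zpowers hx, Nat.card_units, Nat.card_eq_fintype_card] at h1
    omega
  have := Matrix.ProjectiveSpecialLinearGroup.rank_two_simple' h0
  have hp : Group.IsPerfect PSL(2, F) := ⟨SL2Simple.PSL_commutator_eq_top h0⟩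
  have h1 := E8.card_center_SL2' (F := F) fun h2 => by
    have := (FiniteField.even_card_iff_char_two (F := F)).1 (CharP.ringChar_of_prime_eq_zero
      Nat.prime_two h2)
    omega
  have h2 := (center SL(2, F)).card_mul_index
  rw [h1, Lin.card_SL2, show (center SL(2, F)).index = Nat.card G from
    (Nat.card_congr e.toEquiv).symm] at h2
  refine ⟨e.isSimpleGroup, fun h => Group.IsPerfect.not_isMulCommutative PSL(2, F)
    ⟨⟨fun a b => e.symm.injective (by rw [map_mul, map_mul, h.is_comm.comm])⟩⟩, fun ⟨c, hc⟩ => ?_⟩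
  obtain ⟨m, hm⟩ : ∃ m, Fintype.card F = 8 * m + 3 ∨ Fintype.card F = 8 * m + 5 :=
    ⟨Fintype.card F / 8, by omega⟩
  rcases hm with h | h <;> rw [h, hc] at h2
  · have : (8 * m + 3) * ((8 * m + 3 - 1) * (8 * m + 3 + 1)) =
        16 * (32 * m ^ 3 + 36 * m ^ 2 + 13 * m + 1) + 8 := by
      rw [show 8 * m + 3 - 1 = 8 * m + 2 by omega]; ring
    omega
  · have : (8 * m + 5) * ((8 * m + 5 - 1) * (8 * m + 5 + 1)) =
        16 * (32 * m ^ 3 + 60 * m ^ 2 + 37 * m + 7) + 8 := by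
      rw [show 8 * m + 5 - 1 = 8 * m + 4 by omega]; ring
    omega

/-- the facts needed on a simple group `K` with Sylow 2-subgroup `W` -/
structure SF (K W : Subgroup G) : Prop where
  sq : ∀ w ∈ W, w * w = 1
  four : 2 < ♯W
  cyc : ∃ k ∈ K ⊓ 𝐍(W), ∃ t, ∀ v ∈ W, v ≠ 1 → ∃ g ∈ zpowers k, g * t * g⁻¹ = v
  dich : ∀ M, K ⊓ 𝐍(W) ≤ M → (∀ w ∈ W, w ≠ 1 → K ⊓ 𝐂[w] ≤ M) →
    K ≤ M ∨ ∀ w ∈ W, w ≠ 1 → K ⊓ 𝐂[w] ≤ W

omit [Finite G] in
theorem SF.conj (h : SF ⊤ W) (g : G) : SF ⊤ (g •ᶜ W) where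
  sq w hw := by
    obtain ⟨v, hv, rfl⟩ := mem_conj_iff_exists.1 hw
    exact conj_sq (h.sq v hv) g
  four := (card_conj g W).symm ▸ h.four
  cyc := by
    obtain ⟨k, hk, t, hk'⟩ := h.cyc
    refine ⟨g * k * g⁻¹, ⟨trivial, norm_conj g W ▸ conj_mem_conj hk.2⟩, g * t * g⁻¹, fun w hw w1 => ?_⟩
    obtain ⟨v, hv, rfl⟩ := mem_conj_iff_exists.1 hw
    obtain ⟨x, hx, rfl⟩ := hk' v hv (conj_ne_one.1 w1)
    exact ⟨g * x * g⁻¹, conj_zpowers g k ▸ conj_mem_conj hx, by group⟩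
  dich M h1 h2 := by
    refine (h.dich (g⁻¹ •ᶜ M) (fun x hx => ?_) fun w hw w1 x hx => ?_).imp (fun e x _ => ?_)
      fun e w hw w1 x hx => ?_
    · exact mem_conj.2 (by simpa using h1 ⟨trivial, norm_conj g W ▸ conj_mem_conj hx.2⟩)
    · exact mem_conj.2 (by simpa using h2 _ (conj_mem_conj hw) (conj_ne_one.2 w1) (mem_inf.2
        ⟨mem_top (g * x * g⁻¹), cent1_conj g w ▸ conj_mem_conj hx.2⟩))
    · simpa [mul_assoc] using mem_conj.1 (e (mem_top (g⁻¹ * x * g)))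
    · obtain ⟨v, hv, rfl⟩ := mem_conj_iff_exists.1 hw
      exact conj_mono g (le_trans (le_inf le_top le_rfl) (e v hv (conj_ne_one.1 w1)))
        (cent1_conj g v ▸ hx.2)

section simple

variable [IsSimpleGroup G] (hn : ¬ IsMulCommutative G)
include hn

omit [Finite G] in
theorem der_top_eq : der (⊤ : Subgroup G) = ⊤ :=
  smp_top.perfect fun e => hn ⟨⟨fun a b => ab_iff.1 e a trivial b trivial⟩⟩

theorem two_dvd : 2 ∣ ♯(⊤ : Subgroup G) := by_contra fun e =>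
  (der_lt (sol_of_odd (Nat.odd_iff.2 (by omega))) top_ne_bot).ne (der_top_eq hn)

theorem hypC_of_cc (hW : Syl 2 W ⊤) (ha : Ab W) (h : ∀ w ∈ W, w ≠ 1 → 𝐂[w] ≤ W) :
    ∃ u, BSW.HypC W u := by
  obtain ⟨z, hz, z1, z2⟩ := R1.exists_invol_mem (hW.dvd_card_iff.2 (two_dvd hn))
  have hI : BSW.HypI W := ⟨fun x hx x1 _ g => ⟨fun e => h x hx x1 (mem_cent1.2 e),
    fun e => ab_iff.1 ha g e x hx⟩, z, hz, z1, z2⟩
  have h1 : ¬ 𝐍(W) ≤ 𝐂[z] := fun e =>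
    W3.not_mem_der hW ha hz z1 (inf_le_right.trans e) (by rw [der_top_eq hn]; trivial)
  obtain ⟨u, hu, u2⟩ := hI.exists_inv_not_mem (smp_top.norm_ne_top hI.ne_bot fun e => h1
    (le_top.trans (e.ge.trans (ha.le_cent.trans (cent_le_cent1 hz)))))
  exact ⟨u, hI, fun x hx x1 g e => h x hx x1 (mem_cent1.2 e), SetLike.not_le_iff_exists.1 fun e =>
    h1 (e.trans (ha.le_cent.trans (cent_le_cent1 hz))), hu, u2⟩

theorem sf_even {n : ℕ} (e : G ≃* PSL(2, GaloisField 2 n)) (hW : Syl 2 W ⊤) (ha : Ab W) :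
    SF ⊤ W := by
  have hC := BSW.ca2_SL2.of_injective (e.trans BSW.pslEquiv).toMonoidHom (MulEquiv.injective _)
  obtain ⟨z, hz, z1, z2⟩ := R1.exists_invol_mem (hW.dvd_card_iff.2 (two_dvd hn))
  have h1 : ∀ w ∈ W, w * w = 1 := fun w hw => hC.el z w z1 z2 (ab_iff.1 ha w hw z hz)
  have h2 : ∀ w ∈ W, w ≠ 1 → 𝐂[w] ≤ W := fun w hw w1 x hx => hW.mem_of_mem_norm trivial
    (cent_le_norm _ (mem_cent_iff.2 fun y hy => hC.ca w y x w1 (ab_iff.1 ha y hy w hw) (mem_cent1.1 hx)))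
    (isPGroup_zpowers_iff.1 (abelem_isPGroup (abelem_zpowers
      (by rw [sq]; exact hC.el w x w1 (h1 w hw) (mem_cent1.1 hx)))))
  obtain ⟨u, hu⟩ := hypC_of_cc hn hW ha h2
  obtain ⟨m, hm, a, k, fr, -⟩ := hu.exists_frame
  obtain ⟨x, hx⟩ : IsCyclic (GaloisField 2 m)ˣ := inferInstance
  refine ⟨h1, ?_, ⟨k x, ⟨trivial, (fr.k_mem x).1⟩, a 1, fun v hv v1 => ?_⟩,
    fun _ _ _ => .inr fun w hw w1 => inf_le_right.trans (h2 w hw w1)⟩
  · have := Nat.card_le_card_of_injective (fun c => (⟨a c, fr.a_mem c⟩ : W))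
      fun _ _ e => fr.a_inj (congrArg Subtype.val e)
    rw [GaloisField.card 2 m (by omega)] at this
    have := Nat.pow_le_pow_right two_pos hm
    omega
  · obtain ⟨c, rfl⟩ := fr.a_surj v hv (h1 v hv)
    have c0 := fr.a_eq_one_iff.not.1 v1
    obtain ⟨j, hj⟩ := mem_powers_iff_mem_zpowers.2 (hx (Units.mk0 c c0))
    have h3 : ∀ j : ℕ, k x ^ j = k (x ^ j) := fun j => by
      induction j with
      | zero => simp [fr.k_one hu]
      | succ j ih => rw [pow_succ, ih, pow_succ, fr.k_mul hu (by simp) x.ne_zero]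
    refine ⟨_, pow_mem (mem_zpowers _) j, ?_⟩
    rw [h3, fr.k_conj _ (by simp), mul_one, ← Units.val_pow_eq_pow_val, show x ^ j = _ from hj]
    rfl

theorem sf_four (h8 : ¬ 8 ∣ Nat.card G) (hW : Syl 2 W ⊤) : SF ⊤ W := by
  obtain ⟨-, t, s, ρ, h⟩ := exists_v4 hn (by rwa [card_top])
  obtain ⟨g, -, rfl⟩ := h.pair.syl.exists_conj' hW
  refine SF.conj ⟨fun w hw => sq w ▸ h.pair.isEp.abelem.2 w hw, by rw [h.pair.card]; omega,
    ⟨ρ, ⟨trivial, h.mem_norm⟩, t, fun v hv => h.exists_conj_of_mem hv⟩,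
    fun M h1 h2 => or_iff_not_imp_left.2 fun hM w hw w1 => ?_⟩ g
  have h3 := card_cent_eq charO h smp_top (der_top_eq hn) (lt_top_iff_ne_top.2 fun e => hM e.ge)
    (h2 t (t_mem_S4 t s) h.t_ne) (h.mono (h1 ⟨trivial, le_norm_self _ (t_mem_S4 t s)⟩)
      (h1 ⟨trivial, h.mem_norm⟩) le_top)
  obtain ⟨x, -, rfl⟩ := h.exists_conj_of_mem hw w1
  exact (eq_of_le_of_card_le (le_inf le_top (h.pair.ab.le_cent.trans (cent_le_cent1 hw)))
    (by rw [card_inf_cent_conj (mem_top x), h3, h.pair.card])).ge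

end simple

/-- a transitive action on a prime number of points -/
theorem exists_cyc {p : ℕ} [hp : Fact p.Prime] (hW : ♯W = p + 1) (hK : K ≤ 𝐍(W)) (ht : t ∈ W)
    (t1 : t ≠ 1) (tr : ∀ v ∈ W, v ≠ 1 → ∃ g ∈ K, g * t * g⁻¹ = v) :
    ∃ k ∈ K, ∀ v ∈ W, v ≠ 1 → ∃ g ∈ zpowers k, g * t * g⁻¹ = v := by
  have h1 : ∀ L ≤ K, (fun x => x * t * x⁻¹) '' L ⊆ sharp W := by
    rintro L hL _ ⟨g, hg, rfl⟩
    exact conj_mem_sharp (hK (hL hg)) ⟨ht, t1⟩
  have h2 : (sharp W).ncard = p := by rw [ncard_sharp, hW]; rfl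
  have h3 : 𝐂[t].relIndex K = p := by
    rw [← ncard_conj, (h1 K le_rfl).antisymm fun v hv => tr v hv.1 hv.2, h2]
  obtain ⟨P, hP⟩ := exists_syl p K
  obtain ⟨k, hk, hk'⟩ := SetLike.not_le_iff_exists.1 fun e : P ≤ 𝐂[t] => hP.not_dvd (by
    rw [← h3, ← inf_relIndex_right]
    exact relIndex_dvd_of_le_left _ (le_inf e hP.le))
  refine ⟨k, hP.le hk, fun v hv v1 => ?_⟩
  have h4 := h1 _ (zpowers_le.2 (hP.le hk))
  obtain ⟨n, hn⟩ := (hP.isPGroup.to_le (zpowers_le.2 hk)).exists_card_eq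
  obtain ⟨m, -, hm⟩ := (Nat.dvd_prime_pow hp.out).1 (hn ▸ relIndex_dvd_card 𝐂[t] (zpowers k))
  refine (Set.eq_of_subset_of_ncard_le h4 ?_).ge (⟨hv, v1⟩ : v ∈ sharp W)
  rw [ncard_conj, h2, hm]
  exact Nat.le_self_pow (fun e => hk' (zpowers_le.1 (relIndex_eq_one.1 (by rw [hm, e, pow_zero])))) p

theorem sf_jr (hs : SolSE.{u}) (h2 : R1.Ab2 G) (hK : R1.KHyp.{u} (Nat.card G)) {F : Type} [Field F]
    [Fintype F] (h : R1.JRs t H L F) (hW : Syl 2 W ⊤) : SF ⊤ W := by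
  obtain ⟨e⟩ := h.iso
  obtain ⟨k1, k2, k3⟩ := psl_facts h.five h.mod e
  obtain ⟨-, a, b, ρ, hv⟩ := exists_v4 k2 (by rwa [card_top])
  have hp : Pair L a b := ⟨a.2, b.2, fun e => hv.t_ne (Subtype.ext e),
    fun e => hv.pair.s_ne (Subtype.ext e), fun e => hv.pair.ne (Subtype.ext e),
    congrArg Subtype.val hv.t_sq, congrArg Subtype.val hv.pair.s_sq,
    congrArg Subtype.val hv.comm.eq, k3⟩
  have hH : H ≤ 𝐂[t] := fun g hg => mem_cent1.2 ((h.cent g).2 (.inl hg))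
  have hz := abelem_zpowers (p := 2) (x := t) (by rw [sq, h.t2])
  have hc : S4 (a : G) b ≤ 𝐂(zpowers t) := cent_zpowers t ▸ hp.le.trans (h.le.trans hH)
  have hA := abelem_sup hp.isEp.abelem hz hc
  obtain ⟨T, hT, hle⟩ := exists_syl_ge le_top (abelem_isPGroup hA)
  have hTa := h2 T hT.isPGroup
  have ht : t ∈ T := hle (mem_sup_right (mem_zpowers t))
  have h3 : ∀ x ∈ T, x ∈ H → x ∈ S4 (a : G) b := fun x hx hxH => hp.syl.mem_of_mem_norm
    (BSW.mem_of_coprime_relIndex h.norm hxH ((hT.piGrp.piElt hx).coprime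
      ((isPiNum_compl_singleton Nat.prime_two).2 h.odd.not_two_dvd_nat)))
    (cent_le_norm _ (cent_anti (le_sup_left.trans hle) (Ab.le_cent hTa hx))) (hT.piGrp.piElt hx)
  obtain rfl : T = S4 (a : G) b ⊔ zpowers t := le_antisymm (fun x hx => by
    rcases (h.cent x).1 (ab_iff.1 hTa x hx t ht) with e | e
    · exact mem_sup_left (h3 x hx e)
    · exact (mul_mem_cancel_right (mem_sup_right (mem_zpowers t))).1
        (mem_sup_left (h3 _ (mul_mem hx ht) e))) hle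
  have h8 : ♯(S4 (a : G) b ⊔ zpowers t) = 7 + 1 := by
    rw [card_sup_of_inf_eq_bot (.inl (le_norm_of_le_cent hc)) (eq_bot_iff.2 fun x hx => ?_), hp.card,
      Nat.card_zpowers, orderOf_eq_two h.t2 h.t1]
    rcases (mem_zp h.t2).1 hx.2 with rfl | rfl
    exacts [one_mem _, absurd (h.le (hp.le hx.1)) h.tH]
  generalize S4 (a : G) b ⊔ zpowers t = T at hA hT hTa ht h8
  have h4 : ∀ w ∈ T, w * w = 1 := fun w hw => sq w ▸ hA.2 w hw
  have tr : ∀ v ∈ T, v ≠ 1 → ∃ g ∈ ⊤ ⊓ 𝐍(T), g * t * g⁻¹ = v := fun v hv v1 => by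
    obtain ⟨c, rfl⟩ := isConj_iff.1 (h.conj v v1 (h4 v hv)).symm
    exact W3.fusion hT hTa ht trivial hv
  obtain ⟨g, -, rfl⟩ := hT.exists_conj' hW
  have := Fact.mk Nat.prime_seven
  obtain ⟨k, hk, hk'⟩ := exists_cyc h8 inf_le_right ht h.t1 tr
  refine SF.conj ⟨h4, by omega, ⟨k, hk, t, hk'⟩, fun M h5 h6 => .inl (top_le_iff.2 (by_contra
    fun hM => ?_))⟩ g
  have h7 := (le_inf le_top le_rfl).trans (h6 t ht h.t1)
  have h9 := hs G M T h.simple h2 hK hA h8.ge (W3.se_of_le hT hM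
    ((le_inf le_top (le_norm_self T)).trans h5) h.t1 h.t2 h7 fun v hv v1 _ =>
      (tr v hv v1).imp fun _ e => ⟨h5 e.1, e.2⟩)
  have := sol_of_le h9 (h.le.trans (hH.trans h7))
  exact k2 ⟨⟨IsSimpleGroup.comm_iff_isSolvable.2 this⟩⟩

theorem sf_top (hs : SolSE.{u}) [IsSimpleGroup G] (hn : ¬ IsMulCommutative G) (h2 : R1.Ab2 G)
    (hK : R1.KHyp.{u} (Nat.card G + 1)) (hW : Syl 2 W ⊤) : SF ⊤ W := by
  rcases hK G (Nat.lt_succ_self _) inferInstance hn h2 with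
    ⟨n, -, ⟨e⟩⟩ | ⟨F, _, _, h5, hm, ⟨e⟩⟩ | ⟨t, H, L, F, _, _, h⟩
  · exact sf_even hn e hW (h2 W hW.isPGroup)
  · exact sf_four hn (psl_facts h5 hm e).2.2 hW
  · exact sf_jr hs h2 (fun X _ _ hX => hK X (Nat.lt_succ_of_lt hX)) h hW

omit [Finite G] in
theorem syl_subgroupOf {p : ℕ} (h : Syl p W K) : Syl p (W.subgroupOf K) ⊤ :=
  ⟨le_top, isPGroup_subgroupOf h.isPGroup K, by rw [relIndex_top_right]; exact h.not_dvd⟩

omit [Finite G] in
theorem SF.of_subgroupOf (hle : W ≤ K) (h : SF ⊤ (W.subgroupOf K)) : SF K W where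
  sq w hw := congrArg Subtype.val (h.sq ⟨w, hle hw⟩ hw)
  four := Nat.card_congr (subgroupOfEquivOfLe hle).toEquiv ▸ h.four
  cyc := by
    obtain ⟨k, hk, t, hk'⟩ := h.cyc
    refine ⟨k, ⟨k.2, (subgroupOf_normalizer_eq hle).ge hk.2⟩, t, fun v hv v1 => ?_⟩
    obtain ⟨_, ⟨j, rfl⟩, e⟩ := hk' ⟨v, hle hv⟩ hv fun e => v1 (congrArg Subtype.val e)
    exact ⟨_, ⟨j, rfl⟩, congrArg Subtype.val e⟩
  dich M h1 h2 := (h.dich (M.subgroupOf K)
    (fun x hx => h1 ⟨x.2, (subgroupOf_normalizer_eq hle).ge hx.2⟩) fun w hw w1 x hx =>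
      h2 w hw (fun e => w1 (Subtype.ext e))
        ⟨x.2, mem_cent1.2 (congrArg Subtype.val (mem_cent1.1 hx.2))⟩).imp
    (fun e x hx => e (mem_top (⟨x, hx⟩ : K))) fun e w hw w1 x hx =>
      e ⟨w, hle hw⟩ hw (fun e => w1 (congrArg Subtype.val e)) (x := ⟨x, hx.1⟩)
        ⟨trivial, mem_cent1.2 (Subtype.ext (mem_cent1.1 hx.2))⟩

theorem sf (hs : SolSE.{u}) (hK : Smp K) (hn : ¬ Ab K) (h2 : ∀ P ≤ K, IsPGroup 2 P → Ab P)
    (ih : R1.KHyp.{u} (♯K + 1)) (hW : Syl 2 W K) : SF K W := by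
  have := hK.isSimpleGroup fun e => hn (e ▸ ab_bot)
  refine .of_subgroupOf hW.le (sf_top hs hn (fun P hP => ?_) ih (syl_subgroupOf hW))
  have := h2 _ (map_subtype_le P) (hP.map K.subtype)
  exact ab_iff.2 fun a ha b hb => Subtype.ext (ab_iff.1 this a ⟨a, ha, rfl⟩ b ⟨b, hb, rfl⟩)

/-- automorphisms centralizing a self-centralizing Sylow 2-subgroup are inner -/
theorem rigid (hK : Smp K) (hn : ¬ Ab K) (hW : Syl 2 W K) (ha : Ab W)
    (h : ∀ w ∈ W, w ≠ 1 → K ⊓ 𝐂[w] ≤ W) (hg : g ∈ 𝐍(K)) (hc : g ∈ 𝐂(W)) :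
    ∃ w ∈ W, w⁻¹ * g ∈ 𝐂(K) := by
  have := hK.isSimpleGroup fun e => hn (e ▸ ab_bot)
  have ha' : Ab (W.subgroupOf K) := ab_iff.2 fun a h1 b h2 => Subtype.ext (ab_iff.1 ha a h1 b h2)
  obtain ⟨u, hu⟩ := hypC_of_cc hn (syl_subgroupOf hW) ha' fun w hw w1 x hx =>
    h w hw (fun e => w1 (Subtype.ext e)) ⟨x.2, mem_cent1.2 (congrArg Subtype.val (mem_cent1.1 hx))⟩
  obtain ⟨x, hx, e⟩ := E8.exists_conj_of_fix hu ha' (α := K.normalizerMonoidHom ⟨g, hg⟩)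
    fun s hs => Subtype.ext (mem_cent_iff_conj.1 hc s hs)
  refine ⟨x, hx, mem_cent_iff_conj.2 fun y hy => ?_⟩
  have h1 : x * y * (x : G)⁻¹ = g * y * g⁻¹ :=
    (congrArg Subtype.val (DFunLike.congr_fun e (⟨y, hy⟩ : K)) :)
  calc _ = (x : G)⁻¹ * (g * y * g⁻¹) * x := by group
    _ = y := by rw [← h1]; group

end Cfsg.Agent.Wal
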