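import Cfsg.Agent.Lib.W0.Main
import Cfsg.Agent.Lib.E8.Rank

/-!
# Groups with a cyclic Sylow `p`-subgroup whose `p'`-subgroups are abelian
-/

set_option autoImplicit false

namespace Cfsg.Agent.Wal

open Subgroup Cfsg.Agent.OO Cfsg.Agent.Coprime Cfsg.Agent.GW
open scoped commutatorElement Pointwise

universe u

variable {G : Type u} [Group G] [Finite G] {C K N P Q S Y : Subgroup G} {p : ℕ} [hp : Fact p.Prime]
  {e s t u v x y z : G}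

variable (G p) in
/-- a minimal counterexample -/
structure CP : Prop where
  cyc : ∀ Q : Subgroup G, IsPGroup p Q → IsCyclic Q
  ab : ∀ K : Subgroup G, ¬ p ∣ ♯K → Ab K
  ih : ∀ H Q : Subgroup G, H ≠ ⊤ → Syl p Q H → PNil p H ∨ H ≤ 𝐍(Q)
  nn : ¬ PNil p (⊤ : Subgroup G)
  nP : ∀ P : Subgroup G, Syl p P ⊤ → ¬ ⊤ ≤ 𝐍(P)

namespace CP

variable (h : CP G p)
include h

theorem mem_cent (hK : PiGrp {p}ᶜ K) (hx : PiElt {p}ᶜ x) (hn : x ∈ 𝐍(K)) : x ∈ 𝐂(K) :=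
  cent_anti le_sup_left ((h.ab _ ((piGrp_compl_singleton hp.out).1 (hK.sup (piGrp_zpowers.2 hx)
    (.inr (zpowers_le.2 hn))))).le_cent (mem_sup_right (mem_zpowers x)))

theorem mem_cent' (hQ : IsPGroup p Q) (hx : PiElt {p}ᶜ x) (hn : x ∈ 𝐍(Q)) (h0 : Q ⊓ 𝐂[x] ≠ ⊥) :
    x ∈ 𝐂(Q) :=
  zpowers_le.1 (Pf.B13.le_cent_of_isCyclic hQ (h.cyc Q hQ) (zpowers_le.2 hn)
    (coprime_of_isPGroup hQ (piGrp_zpowers.2 hx)) (by rwa [cent_zpowers]))

omit [Finite G] hp in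
theorem ab_syl (hP : Syl p P ⊤) : Ab P := ab_of_isCyclic (h.cyc P hP.isPGroup)

theorem ex (hP : Syl p P ⊤) : ∃ x ∈ 𝐍(P), PiElt {p}ᶜ x ∧ x ∉ 𝐂(P) ∧ P ≤ ⁅P, zpowers x⁆ := by
  obtain ⟨g, hg, hg'⟩ := SetLike.not_le_iff_exists.1 fun e : ⊤ ⊓ 𝐍(P) ≤ 𝐂(P) => h.nn
    (pnil_of_sdprod (Burnside_normal_complement hP e) (Op'_piGrp p _) hP.isPGroup)
  have h1 := constt_mem {p}ᶜ hg.2
  have h2 : constt {p}ᶜ g ∉ 𝐂(P) := fun e => hg' (mem_of_constt_mem ((h.ab_syl hP).le_cent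
    (hP.mem_of_mem_norm trivial (constt_mem _ hg.2) (piElt_constt _ _))) e)
  refine ⟨_, h1, piElt_constt _ _, h2, (coprime_cent_prod (zpowers_le.2 h1) (coprime_of_isPGroup
    hP.isPGroup (piGrp_zpowers.2 (piElt_constt _ _))) (.inl hP.sol)).ge.trans (sup_le le_rfl ?_)⟩
  rw [cent_zpowers]
  exact (of_not_not (mt (h.mem_cent' hP.isPGroup (piElt_constt _ _) h1) h2)).le.trans bot_le

theorem eq_top (hP : Syl p P ⊤) (hC : C ⊴ ⊤) (hle : P ≤ C) : C = ⊤ := by_contra fun hne => by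
  have h0 := hP.mono hle le_top
  refine h.nP P hP (hC.norm.trans (h0.norm_le_norm_of_normal ((h.ih C P hne h0).elim (fun h1 => ?_) id)))
  obtain ⟨x, hx, x1, -, x2⟩ := h.ex hP
  have h2 := (hC.Opi {p}ᶜ).norm
  refine (h1.sdprod h0).sup_eq.ge.trans (sup_le (le_norm_of_le_cent (le_cent_symm (x2.trans ?_)))
    (le_norm_self P))
  exact (commutator_mono le_rfl (zpowers_le.2 (h.mem_cent (Op'_piGrp p C) x1 (h2 trivial)))).trans
    (commutator_le_right' (le_top.trans (le_norm_cent h2)))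

theorem der_eq : der (⊤ : Subgroup G) = ⊤ := by
  obtain ⟨P, hP⟩ := exists_syl p (⊤ : Subgroup G)
  obtain ⟨x, -, -, -, x2⟩ := h.ex hP
  exact h.eq_top hP (der_normal ⊤) (x2.trans (commutator_mono le_top le_top))

theorem eq_bot (hQ : Q ⊴ ⊤) (h1 : IsPGroup p Q) : Q = ⊥ := by_contra fun hne => by
  obtain ⟨P, hP⟩ := exists_syl p (⊤ : Subgroup G)
  obtain ⟨x, hx, x1, x2, -⟩ := h.ex hP
  have h2 := hP.le_of_normal hQ h1
  have h3 := h.eq_top hP ⟨le_top, le_norm_cent hQ.norm⟩ ((h.ab_syl hP).le_cent.trans (cent_anti h2))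
  exact x2 (h.mem_cent' hP.isPGroup x1 hx fun e => hne (eq_bot_iff.2 (e ▸ le_inf h2
    (le_cent1_iff.2 (h3.ge trivial)))))

theorem eq_bot' (hK : K ⊴ ⊤) (h1 : PiGrp {p}ᶜ K) : K = ⊥ := by_contra fun hne => by
  obtain ⟨P, hP⟩ := exists_syl p (⊤ : Subgroup G)
  obtain ⟨x, hx, x1, -, x2⟩ := h.ex hP
  have h2 := le_norm_cent hK.norm
  have h3 := h.eq_top hP ⟨le_top, h2⟩ (x2.trans ((commutator_mono le_rfl (zpowers_le.2
    (h.mem_cent h1 x1 (hK.norm trivial)))).trans (commutator_le_right' (le_top.trans h2))))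
  obtain ⟨r, hr, hd⟩ := Nat.exists_prime_and_dvd (mt card_eq_one.1 hne)
  obtain ⟨z, hz, e⟩ := cauchy hr hd
  have := Fact.mk hr
  obtain ⟨T, hT⟩ := exists_syl r (⊤ : Subgroup G)
  rw [eq_one_of_mem_Zc (h.ab T ((piGrp_compl_singleton hp.out).1 (piGrp_compl_of_isPGroup
    hT.isPGroup (h1 r hr hd)))) ⟨mem_top z, le_cent_symm h3.ge hz⟩ (h.der_eq.ge trivial)
    (e ▸ hr.coprime_iff_not_dvd.2 hT.not_dvd), orderOf_one] at e
  exact hr.ne_one e.symm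

theorem smp : Smp (⊤ : Subgroup G) := fun N hN => or_iff_not_imp_right.2 fun hne => by
  obtain ⟨Q, hQ⟩ := exists_syl p N
  rcases h.ih N Q hne hQ with e | e
  · exact h.eq_bot hN ((e.sdprod hQ).right_eq_iff.2 (h.eq_bot' (hN.Opi _) (Op'_piGrp p N)) ▸
      hQ.isPGroup)
  · exact h.eq_bot' hN ((piGrp_compl_singleton hp.out).2 (hQ.eq_bot_iff.1 (h.eq_bot
      ⟨le_top, hN.norm.trans (hQ.norm_le_norm_of_normal e)⟩ hQ.isPGroup)))

omit hp in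
theorem not_ab : ¬ Ab (⊤ : Subgroup G) := fun e => h.nn (pnil_of_nil p (nil_of_ab e))

theorem ne_two : p ≠ 2 := by
  rintro rfl
  obtain ⟨P, hP⟩ := exists_syl 2 (⊤ : Subgroup G)
  exact h.nn (pnil_of_sdprod (cyclic_pdiv_normal_complement hP (h.cyc P hP.isPGroup)
    fun q hq _ => hq.two_le) (Op'_piGrp 2 _) hP.isPGroup)

theorem ab2 : R1.Ab2 G := fun P hP =>
  h.ab P ((piGrp_compl_singleton hp.out).1 (piGrp_compl_of_isPGroup hP h.ne_two.symm))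

theorem piElt_inv (h2 : t * t = 1) : PiElt {p}ᶜ t := piGrp_zpowers.1
  (piGrp_compl_of_isPGroup (abelem_isPGroup (abelem_zpowers (p := 2) (by rwa [sq]))) h.ne_two.symm)

theorem odd (hQ : IsPGroup p Q) : Odd ♯Q := odd_of_isPGroup h.ne_two hQ

theorem le_norm (hP : Syl p P ⊤) (h1 : 𝐍(P) ≤ Y) (h2 : Y ≠ ⊤) : Y ≤ 𝐍(P) :=
  (h.ih Y P h2 (hP.mono ((le_norm_self P).trans h1) le_top)).resolve_left fun e => by
    obtain ⟨x, hx, x1, x2, -⟩ := h.ex hP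
    exact x2 (zpowers_le.1 (e.le_cent hP.isPGroup ((le_norm_self P).trans h1) (piGrp_zpowers.2 x1)
      (zpowers_le.2 (h1 hx)) (zpowers_le.2 hx)))

theorem norm_ne_top (x1 : x ≠ 1) : 𝐍(zpowers x) ≠ ⊤ :=
  h.smp.norm_ne_top (zpowers_ne_bot.2 x1) fun e => h.not_ab (e ▸ ab_of_isCyclic inferInstance)

theorem norm_le (hP : Syl p P ⊤) (hy : y ∈ P) (y1 : y ≠ 1) : 𝐍(zpowers y) ≤ 𝐍(P) :=
  h.le_norm hP (norm_le_norm_of_isCyclic (h.cyc P hP.isPGroup) (zpowers_le.2 hy)) (h.norm_ne_top y1)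

omit [Finite G] hp h in
theorem conj_mul_inv (hu : u * u = 1) (hv : v * v = 1) :
    u * (u * v) * u⁻¹ = (u * v)⁻¹ ∧ v * (u * v) * v⁻¹ = (u * v)⁻¹ := by
  rw [mul_inv_rev, inv_eq hu, inv_eq hv, ← mul_assoc, hu, one_mul, mul_assoc, mul_assoc, hv, mul_one]
  exact ⟨rfl, rfl⟩

omit hp h in
theorem mem_norm_of_inv (e : u * x * u⁻¹ = x⁻¹) : u ∈ 𝐍(zpowers x) :=
  mem_norm_of_conj_le (by rw [conj_zpowers, e, zpowers_inv])

theorem dich (hu : u * u = 1) (hv : v * v = 1) :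
    (∃ z, z ≠ 1 ∧ z * z = 1 ∧ u ∈ 𝐂[z] ∧ v ∈ 𝐂[z]) ∨ PiElt {p} (u * v) := by
  have k : ∀ w, w * w = 1 → w * (u * v) * w⁻¹ = (u * v)⁻¹ → w ∈ 𝐂[constt {p}ᶜ (u * v)] ∧
      constt {p}ᶜ (u * v) * constt {p}ᶜ (u * v) = 1 := fun w w2 e => by
    have h1 := (constt_conj {p}ᶜ w (u * v)).symm
    rw [e, constt_inv] at h1
    have h2 := (cent_zpowers _).le (h.mem_cent (piGrp_zpowers.2 (piElt_constt _ _))
      (h.piElt_inv w2) (mem_norm_of_inv h1))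
    exact ⟨h2, mul_eq_one_iff_eq_inv.2 ((mem_cent1_iff_conj.1 h2).symm.trans h1)⟩
  obtain ⟨e1, e2⟩ := conj_mul_inv hu hv
  refine or_iff_not_imp_right.2 fun e => ⟨_, fun e' => e ?_, (k u hu e1).2, (k u hu e1).1,
    (k v hv e2).1⟩
  simpa using constt_eq_one_iff.1 e'

theorem exists_not_cent (hS : Syl 2 S ⊤) (ht : t ∈ S) (t1 : t ≠ 1) :
    ∃ e ∈ 𝐍(S), PiElt {p} e ∧ e ∉ 𝐂[t] := by
  obtain ⟨g, hg, hg'⟩ := SetLike.not_le_iff_exists.1 fun e =>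
    W3.not_mem_der hS (h.ab2 S hS.isPGroup) ht t1 e (h.der_eq.ge trivial)
  exact ⟨_, constt_mem _ hg.2, piElt_constt _ _, fun e => hg' (mem_of_constt_mem e (cent_le_cent1 ht
    (h.mem_cent (piGrp_compl_of_isPGroup hS.isPGroup h.ne_two.symm) (piElt_constt _ _)
      (constt_mem _ hg.2))))⟩

theorem exists_inv (hS : Syl 2 S ⊤) : ∃ t ∈ S, t ≠ 1 ∧ t * t = 1 :=
  R1.exists_invol_mem (hS.dvd_card_iff.2 (by_contra fun e => (der_lt (sol_of_odd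
    (Nat.odd_iff.2 (by omega))) fun e : (⊤ : Subgroup G) = ⊥ => h.not_ab (e ▸ ab_bot)).ne h.der_eq))

theorem ti (hP : Syl p P ⊤) {g : G} (h0 : P ⊓ g •ᶜ P ≠ ⊥) : g ∈ 𝐍(P) := by
  obtain ⟨y, hy, y1⟩ := exists_mem_ne_one h0
  have h1 := hP.conj_of_mem (mem_top g)
  exact conj_eq_self_iff.1 (h1.eq_of_le_syl hP (hP.le_of_norm le_top h1.isPGroup (.inr
    ((le_norm_self _).trans ((norm_le_norm_of_isCyclic (h.cyc _ h1.isPGroup)
      (zpowers_le.2 hy.2)).trans (h.norm_le hP hy.1 y1))))))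

theorem case_a (hc : ∀ t : G, t ≠ 1 → t * t = 1 → ¬ p ∣ ♯𝐂[t]) : False := by
  obtain ⟨S, hS⟩ := exists_syl 2 (⊤ : Subgroup G)
  obtain ⟨t, ht, t1, t2⟩ := h.exists_inv hS
  have hc' : ∀ t : G, t ≠ 1 → t * t = 1 → ∀ Q : Subgroup G, IsPGroup p Q → Q ⊓ 𝐂[t] = ⊥ :=
    fun t t1 t2 Q hQ => (piGrp_singleton hQ).inf_eq_bot ((piGrp_compl_singleton hp.out).2 (hc t t1 t2))
  have ha := h.ab _ (hc t t1 t2)
  have hSt := (Ab.le_cent (h.ab2 S hS.isPGroup)).trans (cent_le_cent1 ht)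
  obtain ⟨e, he, e1, e2⟩ := h.exists_not_cent hS ht t1
  have k1 : ∀ A ⊆ ODD.Invs G, (∀ x ∈ zpowers e, ∀ a ∈ A, x * a * x⁻¹ ∈ A) → p ∣ A.ncard :=
    fun A hA h1 => E8.dvd_ncard_conj h1 fun a ha => by
      rw [← inf_relIndex_right, inf_comm, hc' a (hA ha).1 (hA ha).2 _ (isPGroup_zpowers_iff.2 e1),
        relIndex_bot_left]
      exact dvd_card_of_isPGroup (isPGroup_zpowers_iff.2 e1)
        (zpowers_ne_bot.2 fun e => e2 (e ▸ one_mem _))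
  have k2 : p ∣ (ODD.Invs G \ 𝐂[t]).ncard := by
    rw [← Set.sdiff_self_inter, Set.ncard_sdiff Set.inter_subset_left]
    refine Nat.dvd_sub (k1 _ le_rfl fun x _ a ha => ⟨conj_ne_one.2 ha.1, conj_sq ha.2 x⟩)
      (k1 _ Set.inter_subset_left fun x hx a ha' => ⟨⟨conj_ne_one.2 ha'.1.1, conj_sq ha'.1.2 x⟩,
        hSt (conj_mem_of_norm (zpowers_le.2 he hx) ((hS.mono hSt le_top).mem_of_mem_norm ha'.2
          (cent_le_norm _ (cent_anti hSt (ha.le_cent ha'.2))) (isPGroup_zpowers_iff.1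
            (abelem_isPGroup (abelem_zpowers (by rw [sq, ha'.1.2]))))))⟩)
  have k3 : ∀ v ∈ ODD.Invs G \ 𝐂[t], ∃ Q, Syl p Q ⊤ ∧ t * v ∈ Q ∧ t * v ≠ 1 ∧ t ∈ 𝐍(Q) := by
    intro v hv
    have h1 := (h.dich t2 hv.1.2).resolve_left fun ⟨z, z1, z2, a, b⟩ =>
      hv.2 (mem_cent1.2 (ab_iff.1 (h.ab _ (hc z z1 z2)) v b t a))
    have h2 : t * v ≠ 1 := fun e => hv.2 (eq_inv_of_mul_eq_one_right e ▸ inv_mem (mem_cent1_self t))
    obtain ⟨Q, hQ, h3⟩ := exists_syl_ge le_top (isPGroup_zpowers_iff.2 h1)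
    exact ⟨Q, hQ, h3 (mem_zpowers _), h2, h.norm_le hQ (h3 (mem_zpowers _)) h2
      (mem_norm_of_inv (conj_mul_inv t2 hv.1.2).1)⟩
  obtain ⟨v, hv⟩ : (ODD.Invs G \ 𝐂[t]).Nonempty := by
    by_contra h1
    refine h.not_ab (ab_of_le ha ((h.smp (normalClosure {t}) (normalIn_top.2 inferInstance)).elim
      (fun e => absurd (mem_bot.1 (e ▸ subset_normalClosure rfl)) t1) fun e => e.ge.trans
        ((closure_le _).2 fun x hx => by_contra fun hx' => h1 ⟨x, ?_, hx'⟩)))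
    obtain ⟨a, ha', hx⟩ := Group.mem_conjugatesOfSet_iff.1 hx
    obtain ⟨c, rfl⟩ := isConj_iff.1 hx
    rw [show a = t from ha']
    exact ⟨conj_ne_one.2 t1, conj_sq t2 c⟩
  obtain ⟨P, hP, h1, h2, h3⟩ := k3 v hv
  have h0 : P ≠ ⊥ := fun e => h2 (mem_bot.1 (e ▸ h1))
  have k4 : (fun x => t * x) '' (ODD.Invs G \ 𝐂[t]) = classSupp (sharp P) 𝐂[t] := by
    refine Set.Subset.antisymm ?_ ?_
    · rintro _ ⟨w, hw, rfl⟩
      obtain ⟨Q, hQ, h4, h5, h6⟩ := k3 w hw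
      obtain ⟨g, -, rfl⟩ := hP.exists_conj' hQ
      rw [norm_conj, mem_conj, ← inv_inv g] at h6
      rw [inv_inv] at h6
      have h7 := conj_sq t2 g⁻¹
      have h8 : t * (g⁻¹ * t * g⁻¹⁻¹) ∈ 𝐂(P) := mem_cent_iff_conj.2 fun x hx => by
        rw [← V4.mul_left.conj_conj_elt, conj_eq_inv h7 (by simpa using h6)
          (hc' _ (conj_ne_one.2 t1) h7 P hP.isPGroup) hx,
          conj_eq_inv t2 h3 (hc' t t1 t2 P hP.isPGroup) (inv_mem hx), inv_inv]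
      obtain ⟨k, hk⟩ := BSW.exists_conj_of_odd t2 h7 (odd_of_mem (odd_of_forall fun a ha a2 =>
        by_contra fun a1 => h0 ((inf_eq_left.2 (le_cent1_iff.2 ha)).symm.trans
          (hc' a a1 a2 P hP.isPGroup))) h8)
      replace h8 := pow_mem h8 k
      generalize (t * (g⁻¹ * t * g⁻¹⁻¹)) ^ k = c at hk h8
      obtain ⟨y, hy, e⟩ := mem_conj_iff_exists.1 h4
      refine ⟨y, ⟨hy, fun e' => h5 (by rw [e, show y = 1 from e']; group)⟩, g * c,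
        mem_cent1_iff_conj.2 ?_, ?_⟩
      · rw [← V4.mul_left.conj_conj_elt, ← hk]; group
      · rw [← V4.mul_left.conj_conj_elt, mem_cent_iff_conj.1 h8 y hy]; exact e
    · rintro _ ⟨y, hy, g, hg, rfl⟩
      have h4 := (hP.conj_of_mem (mem_top g)).isPGroup
      have h5 := hc' t t1 t2 _ h4
      have h6 := conj_eq_inv t2 (by
        rw [norm_conj, ← mem_cent1_iff_conj.1 hg]; exact conj_mem_conj h3) h5 (conj_mem_conj hy.1)
      have h7 : g * y * g⁻¹ ∉ 𝐂[t] := fun e =>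
        conj_ne_one.2 hy.2 (mem_bot.1 (h5.le ⟨conj_mem_conj hy.1, e⟩))
      generalize g * y * g⁻¹ = y at h6 h7
      have h8 : t * y ∉ 𝐂[t] := fun e => h7 ((mul_mem_cancel_left (mem_cent1_self t)).1 e)
      refine ⟨t * y, ⟨⟨fun e => h8 (e ▸ one_mem _), ?_⟩, h8⟩, ?_⟩
      · rw [inv_eq t2] at h6
        rw [← mul_assoc, h6, inv_mul_cancel]
      · simp only [← mul_assoc, t2, one_mul]
  rw [← Set.ncard_image_of_injective _ (mul_right_injective t), k4,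
    (normedTI_sharp_of_inf_conj (L := 𝐂[t] ⊓ 𝐍(P)) h0 inf_le_left inf_le_right fun g hg e =>
      ⟨hg, h.ti hP e⟩).ncard_classSupp, ncard_sharp, hp.out.dvd_mul] at k2
  refine k2.elim (fun e => hp.out.not_dvd_one ?_) fun e => hc t t1 t2 (e.trans (relIndex_dvd_card _ _))
  exact (Nat.dvd_sub_iff_right (card_pos' P) (dvd_card_of_isPGroup hP.isPGroup h0)).1 e

theorem cent_eq (hP : Syl p P ⊤) (hx : x ∈ 𝐂(P)) (x1 : x ≠ 1) (h1 : PiElt {p}ᶜ x) : 𝐂[x] = 𝐍(P) := by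
  have h2 := hP.mono (h.ab_syl hP).le_cent le_top
  have h3 := Burnside_normal_complement h2 inf_le_left
  have h4 : x ∈ Op' p 𝐂(P) := (h3.hall_left (Op'_piGrp p _) hP.piGrp.compl_compl).mem_of_normal
    h3.normal.norm hx h1
  have h5 : 𝐍(P) ≤ 𝐂[x] := fun g hg => mem_of_constt_mem (le_cent1_iff.2 hx
    (hP.mem_of_mem_norm trivial (constt_mem _ hg) (piElt_constt _ _))) (cent_le_cent1 h4
      (h.mem_cent (Op'_piGrp p _) (piElt_constt _ _)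
        (norm_le_norm_Opi _ _ (norm_le_norm_cent P (constt_mem _ hg)))))
  exact (h.le_norm hP h5 fun e => h.norm_ne_top x1 (top_le_iff.1
    (e.ge.trans ((cent_zpowers x).ge.trans (cent_le_norm _))))).antisymm h5

theorem case_b (t1 : t ≠ 1) (t2 : t * t = 1) (hd : p ∣ ♯𝐂[t]) : False := by
  have h0 : (⊤ : Subgroup G) ≠ ⊥ := fun e => h.not_ab (e ▸ ab_bot)
  obtain ⟨y, hy, hy'⟩ := cauchy hp.out hd
  have y1 : y ≠ 1 := fun e => hp.out.ne_one (by rw [← hy', e, orderOf_one])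
  obtain ⟨P, hP, h1⟩ := exists_syl_ge le_top (Core.isPGroup_zpowers_of_orderOf (k := 1)
    (hy'.trans (pow_one p).symm))
  replace h1 := zpowers_le.1 h1
  have h2 := h.mem_cent' hP.isPGroup (h.piElt_inv t2) (h.norm_le hP h1 y1 (cent_le_norm _
    ((cent_zpowers y).ge (mem_cent1_comm.1 hy)))) fun e => y1 (mem_bot.1 (e.le ⟨h1, hy⟩))
  have hM := h.cent_eq hP h2 t1 (h.piElt_inv t2)
  obtain ⟨S, hS, ht⟩ := exists_syl_ge le_top (abelem_isPGroup (abelem_zpowers (p := 2) (x := t)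
    (by rwa [sq])))
  replace ht := zpowers_le.1 ht
  have ha : Ab S := h.ab2 S hS.isPGroup
  obtain ⟨e, he, -, e2⟩ := h.exists_not_cent hS ht t1
  have hP' := hP.conj_of_mem (mem_top e)
  have hs := conj_mem_of_norm he ht
  have s1 : e * t * e⁻¹ ≠ 1 := conj_ne_one.2 t1
  have s2 := conj_sq t2 e
  have h3 : e * t * e⁻¹ ∈ 𝐂(e •ᶜ P) := cent_conj e P ▸ conj_mem_conj h2
  have hM' : 𝐂[e * t * e⁻¹] = 𝐍(e •ᶜ P) := by rw [cent1_conj, hM, norm_conj]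
  generalize e * t * e⁻¹ = s at hs s1 s2 h3 hM'
  have k1 : ∀ x : G, x * x = 1 → x ∈ 𝐂(P) → x ∈ 𝐂(e •ᶜ P) → x = 1 := fun x x2 a b => by_contra fun x1 =>
    e2 (hM ▸ conj_eq_self_iff.1 (hP'.eq_of_le_syl hP (hP.le_of_norm le_top hP'.isPGroup (.inr
      ((le_norm_self _).trans ((h.cent_eq hP' b x1 (h.piElt_inv x2)).symm.trans
        (h.cent_eq hP a x1 (h.piElt_inv x2))).le)))))
  have k2 : ∀ Q, Syl p Q ⊤ → ∀ a : G, a * a = 1 → a ∈ 𝐍(Q) → a ∉ 𝐂(Q) → Q ⊓ 𝐂[a] = ⊥ :=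
    fun Q hQ a a2 a3 a4 => of_not_not (mt (h.mem_cent' hQ.isPGroup (h.piElt_inv a2) a3) a4)
  have k3 : ∀ Q, Syl p Q ⊤ → S ≤ 𝐍(Q) → ∀ a ∈ S, ∀ b ∈ S, a * a = 1 → b * b = 1 → a ∉ 𝐂(Q) →
      b ∉ 𝐂(Q) → a * b ∈ 𝐂(Q) := fun Q hQ hn a ha b hb a2 b2 a3 b3 =>
    mem_cent_iff_conj.2 fun x hx => by
      rw [← V4.mul_left.conj_conj_elt, conj_eq_inv b2 (hn hb) (k2 Q hQ b b2 (hn hb) b3) hx,
        conj_eq_inv a2 (hn ha) (k2 Q hQ a a2 (hn ha) a3) (inv_mem hx), inv_inv]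
  have n1 : S ≤ 𝐍(P) := hM ▸ ha.le_cent.trans (cent_le_cent1 ht)
  have n2 : S ≤ 𝐍(e •ᶜ P) := hM' ▸ ha.le_cent.trans (cent_le_cent1 hs)
  have s3 : s ∉ 𝐂(P) := fun e => s1 (k1 s s2 e h3)
  have sq' : ∀ a ∈ S, ∀ b ∈ S, a * a = 1 → b * b = 1 → a * b * (a * b) = 1 := fun a h1 b h2 a2 b2 => by
    rw [(show Commute b a from ab_iff.1 ha b h2 a h1).mul_mul_mul_comm, a2, b2, one_mul]
  have k4 : ∀ a ∈ S, a * a = 1 → a ∈ 𝐂(P) → a ∈ zpowers t := fun a h4 a2 h5 => by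
    by_cases h6 : a ∈ 𝐂(e •ᶜ P)
    · exact k1 a a2 h5 h6 ▸ one_mem _
    · exact eq_inv_of_mul_eq_one_left (k1 _ (sq' a h4 t ht a2 t2) (mul_mem h5 h2)
        (k3 _ hP' n2 a h4 t ht a2 t2 h6 fun e => t1 (k1 t t2 h2 e))) ▸ inv_mem (mem_zpowers t)
  have k5 : ∀ a ∈ S, a * a = 1 → a ∈ S4 t s := fun a h4 a2 => by
    by_cases h5 : a ∈ 𝐂(P)
    · exact mem_sup_left (k4 a h4 a2 h5)
    · exact (mul_mem_cancel_right (s_mem_S4 t s)).1 (mem_sup_left (k4 _ (mul_mem h4 hs)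
        (sq' a h4 s hs a2 s2) (k3 _ hP n1 a h4 s hs a2 s2 h5 s3)))
  have hc : Commute t s := ab_iff.1 ha t ht s hs
  have hsg := h.smp.isSimpleGroup h0
  have h8 := W0.w0 G topEquiv.symm.isSimpleGroup (fun e => h.not_ab inferInstance) h.ab2
    fun A hA => by
      obtain ⟨g, -, hg⟩ := hS.exists_conj_le le_top (abelem_isPGroup hA)
      have h4 := card_le (show g •ᶜ A ≤ S4 t s from fun x hx =>
        k5 x (hg hx) (sq x ▸ (abelem_conj.2 hA).2 x hx))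
      have h5 := Nat.le_of_dvd (Nat.mul_pos (card_pos' _) (card_pos' _)) (card_sup_dvd (A := zpowers t)
        (B := zpowers s) (.inl (le_norm_of_le_cent (by
          rw [cent_zpowers, zpowers_le]; exact mem_cent1.2 hc))))
      rw [Nat.card_zpowers, Nat.card_zpowers, orderOf_eq_two t2 t1, orderOf_eq_two s2 s1] at h5
      rw [card_conj, S4] at h4
      omega
  have hq : Pair ⊤ t s := ⟨trivial, trivial, t1, s1, fun e => s3 (e ▸ h2), t2, s2, hc, by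
    rwa [card_top]⟩
  obtain ⟨ρ, hv⟩ := hq.sdprod_or.resolve_left fun e => (der_lt (hq.sol_of_sdprod e) h0).ne h.der_eq
  have b1 := ((charO G ⊤ t s ρ hv).2 h.der_eq).1
  have b2 := card_le_kI (X := ⊤) (le_inf le_top (le_cent1_iff.2 h2)) (k2 P hP s s2 (n1 hs) s3)
  have b3 : 3 ≤ ♯P := le_trans (by have := hp.out.two_le; have := h.ne_two; omega) (Nat.le_of_dvd
    (card_pos' P) (dvd_card_of_isPGroup hP.isPGroup fun e => y1 (mem_bot.1 (e ▸ h1))))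
  obtain ⟨I, hI⟩ : ∃ I, I = ODD.Invs G ∩ 𝐂[t] := ⟨_, rfl⟩
  have b4 : I.ncard ≤ 1 + 2 * kI ⊤ t s := by
    obtain ⟨D, hD⟩ : ∃ D, D = (fun x => x * s * x⁻¹) '' (⊤ ⊓ 𝐂[t] : Subgroup G) := ⟨_, rfl⟩
    have h4 : D.ncard = kI ⊤ t s := hD ▸ ncard_conj _ _
    have h5 := Set.ncard_le_ncard (show I ⊆ insert t (D ∪ (fun x => t * x) '' D) from fun a ha => by
      rw [hI] at ha
      refine or_iff_not_imp_left.2 fun a3 => ?_
      obtain ⟨g, hg, e⟩ := hq.exists_pair ⟨trivial, ha.2⟩ ha.1.1 ha.1.2 a3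
      have h5 := mem_cent1_iff_conj.1 (inv_mem hg).2
      rcases hq.mem_S4.1 (e ▸ conj_mem_conj (s_mem_S4 t a)) with e | e | e | e
      · exact absurd e (conj_ne_one.2 ha.1.1)
      · exact absurd (by rw [← h5, ← e]; group) a3
      · exact .inl (hD ▸ ⟨g⁻¹, inv_mem hg, by simp only [← e]; group⟩)
      · refine .inr ⟨g⁻¹ * s * g⁻¹⁻¹, by rw [hD]; exact ⟨g⁻¹, inv_mem hg, rfl⟩, ?_⟩
        simp only
        rw [← h5, conj_mul, ← e]
        group)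
    have h6 := Set.ncard_insert_le t (D ∪ (fun x => t * x) '' D)
    have h7 := Set.ncard_union_le D ((fun x => t * x) '' D)
    rw [Set.ncard_image_of_injective _ (mul_right_injective t)] at h7
    omega
  choose! f hf using fun z (hz : z ∈ ODD.Invs G) => hv.exists_conj (mem_top z) hz.1 hz.2
  have b5 : nI ⊤ t ≤ I.ncard * I.ncard := by
    rw [nI, ← ncard_conj, ← Set.ncard_prod]
    refine le_trans (Set.ncard_le_ncard ?_)
      (Set.ncard_image_le (f := fun x : G × G => f x.1 * x.2 * (f x.1)⁻¹))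
    rintro _ ⟨g, -, rfl⟩
    have v1 : g * t * g⁻¹ ≠ 1 := conj_ne_one.2 t1
    have v2 := conj_sq t2 g
    simp only
    generalize g * t * g⁻¹ = v at v1 v2
    obtain ⟨z, z1, z2, h4, h5⟩ : ∃ z, z ≠ 1 ∧ z * z = 1 ∧ t ∈ 𝐂[z] ∧ v ∈ 𝐂[z] := by
      refine (h.dich t2 v2).elim id fun h4 => ?_
      by_cases h5 : t * v = 1
      · exact ⟨t, t1, t2, mem_cent1_self t,
          eq_inv_of_mul_eq_one_right h5 ▸ inv_mem (mem_cent1_self t)⟩
      obtain ⟨g, -, h6⟩ := hP.exists_le_conj' le_top (isPGroup_zpowers_iff.2 h4)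
      have h7 := h.norm_le (hP.conj_of_mem (mem_top g)) (h6 (mem_zpowers _)) h5
      rw [norm_conj, ← hM, ← cent1_conj] at h7
      exact ⟨_, conj_ne_one.2 t1, conj_sq t2 g, h7 (mem_norm_of_inv (conj_mul_inv t2 v2).1),
        h7 (mem_norm_of_inv (conj_mul_inv t2 v2).2)⟩
    have h6 := (hf z ⟨z1, z2⟩).2
    rw [← h6, cent1_conj] at h5
    obtain ⟨a, ha, rfl⟩ := mem_conj_iff_exists.1 h5
    refine ⟨(z, a), ?_, rfl⟩
    rw [hI]
    exact ⟨⟨⟨z1, z2⟩, mem_cent1_comm.1 h4⟩, ⟨conj_ne_one.1 v1, by simpa [conj_mul] using v2⟩, ha⟩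
  nlinarith [Nat.mul_le_mul b4 b4]

theorem false : False :=
  h.case_a fun _ t1 t2 => h.case_b t1 t2

end CP

end Cfsg.Agent.Wal
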