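import Cfsg.Agent.Lib.Wal.CycP
import Cfsg.Agent.Lib.Coprime.Lucido

/-!
# Solvable groups without elements of order `abc`: fixed point lemmas
-/

set_option autoImplicit false

namespace Cfsg.Agent.Wal.K4

open Subgroup Cfsg.Agent.OO Cfsg.Agent.Coprime Cfsg.Agent.GW
open scoped commutatorElement Pointwise

universe u

variable {G : Type u} [Group G] [Finite G] {B D H K L M R T V W X Y Z : Subgroup G}
  {a b c : ℕ} {π : Set ℕ}

theorem fr0 (h : Semiregular K R) (hn : R ≤ 𝐍(K)) (hR : R ≠ ⊥) (hK : K ≤ 𝐍(M)) (hR' : R ≤ 𝐍(M))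
    (hM : PiGrp πᶜ M) (h1 : PiGrp π K) (h2 : PiGrp π R) (hs : Sol M) (h0 : M ⊓ 𝐂(R) = ⊥) :
    K ≤ 𝐂(M) := by
  rcases eq_or_ne K ⊥ with rfl | hK0
  · exact bot_le
  exact (Frobenius_Wielandt_fixpoint (h.isFrob hn hK0 hR) (sup_le hK hR')
    (IsPiNum.coprime' hM (h1.sup h2 (.inr hn))) hs).2.1 h0

theorem inv_comm (hY : IsEp 2 1 Y H) (hT : T ≤ 𝐍(M)) (hn : Y ≤ 𝐍(M)) (h0 : M ⊓ 𝐂(Y) = ⊥) :
    ⁅T, Y⁆ ≤ 𝐂(M) := by
  obtain ⟨y, -, hy, rfl⟩ := hY.exists_zpowers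
  have hyy : y * y = 1 := by rw [← pow_two, ← hy, pow_orderOf_eq_one]
  have hi := fun x (hx : x ∈ M) => conj_eq_inv hyy (hn (mem_zpowers y)) (cent_zpowers y ▸ h0) hx
  refine commutator_le.2 fun t ht z hz => ?_
  obtain rfl | rfl : z = 1 ∨ z = y := by
    obtain ⟨k, rfl⟩ := mem_zpowers_iff.1 hz
    rw [← zpow_mod_orderOf, hy]
    rcases Int.emod_two_eq_zero_or_one k with e | e <;> simp [e]
  · simp
  refine mem_cent_iff_conj.2 fun x hx => ?_
  have e1 : z⁻¹ = z := inv_eq_of_mul_eq_one_right hyy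
  have e2 := hi _ (conj_mem_of_norm' (hT ht) (inv_mem hx))
  have e3 := hi x hx
  calc ⁅t, z⁆ * x * ⁅t, z⁆⁻¹ = t * (z * (t⁻¹ * (z⁻¹ * x * z⁻¹⁻¹) * t) * z⁻¹) * t⁻¹ := by
        rw [commutatorElement_def]; group
    _ = x := by rw [e1] at e3 ⊢; rw [e1, e3]; rw [e1] at e2; rw [e2]; group

variable [ha : Fact a.Prime] [hb : Fact b.Prime] [hc : Fact c.Prime]

omit ha hb hc in
theorem pi2 (h1 : a ≠ b) (h2 : a ≠ c) : a ∈ ({b, c} : Set ℕ)ᶜ := by simp [h1, h2]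

theorem odd_of_ne (hT : IsPGroup b T) (h : b ≠ 2) : Odd ♯T := by
  obtain ⟨n, hn⟩ := IsPGroup.iff_card.1 hT
  exact hn ▸ (hb.out.odd_of_ne_two h).pow

/-- a group of prime order acting without fixed points -/
theorem hh (hM : IsPGroup a M) (hT : IsPGroup b T) (hY : IsEp c 1 Y H) (ab : a ≠ b) (ac : a ≠ c)
    (bc : b ≠ c) (ho : Ab T ∨ b ≠ 2) (hn : Y ≤ 𝐍(T)) (h1 : T ≤ 𝐍(M)) (h2 : Y ≤ 𝐍(M))
    (h0 : M ⊓ 𝐂(Y) = ⊥) : ⁅T, Y⁆ ≤ 𝐂(M) := by
  have hco := coprime_of_isPGroup_ne hT hY.isPGroup bc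
  have p1 : PiGrp {b, c} T := piGrp_of_isPGroup hT (by simp)
  have p2 : PiGrp {b, c} Y := piGrp_of_isPGroup hY.isPGroup (by simp)
  have p0 : PiGrp ({b, c} : Set ℕ)ᶜ M := piGrp_of_isPGroup hM (pi2 ab ac)
  have hle : ⁅T, Y⁆ ≤ T := commutator_le_left' hn
  rcases ho with ho | ho
  · exact fr0 (semiregular_prime hY.prime_card (coprime_abel_cent_TI hn hco ho))
      (le_norm_commutator_right _ _) (hY.ne_bot one_ne_zero) (hle.trans h1) h2 p0 (p1.of_le hle) p2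
      (sol_of_isPGroup hM) h0
  rcases eq_or_ne c 2 with rfl | c2
  · exact inv_comm hY h1 h2 h0
  have n1 := le_norm_Phi h1
  have n2 := le_norm_Phi h2
  have n0 := (Phi_normal M).norm
  have p3 := p1.sup p2 (.inr hn)
  have hcM : (♯M).Coprime ♯Y := coprime_of_isPGroup_ne hM hY.isPGroup ac
  have hcP : (♯(Phi M)).Coprime ♯Y := coprime_card_mono hcM (Phi_le M) le_rfl
  have key := odd_prime_sdprod_abelem_cent1 (k := a) (V := M ⁒ Phi M)
    (sol_quo (sol_sup hn (sol_of_isPGroup hY.isPGroup) (sol_of_isPGroup hT)) (Phi M)) (odd_quo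
      (Odd.of_dvd_nat ((odd_of_ne hY.isPGroup c2).mul (odd_of_ne hT ho)) (card_sup_dvd (.inl hn))) _)
    (sup_comm T Y ▸ (IsSdprod.of_coprime hn hco).quo_of_coprime (sup_le n1 n2) hco)
    (coprime_quo hco _ _) (by rw [card_quo_of_coprime n2 hcP]; exact hY.prime_card)
    (abelem_quo_Phi hM) (quo_le_norm _ (sup_le h2 h1))
    ((sup_comm T Y ▸ p3.quo (Phi M)).not_dvd ha.out (pi2 ab ac))
    (by rw [← coprime_quotient_cent (Phi_normal M) n2 hcP (.inr (sol_of_isPGroup hY.isPGroup)), h0,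
      quo_eq_bot bot_le])
  refine coprime_cent_Phi hM (hle.trans h1) (IsPiNum.coprime' p0 (p1.of_le hle)) ?_
  rw [← quo_le_cent_iff n0 (hle.trans n1), quo_commutator n1 n2, le_cent_comm, commutator_comm]
  exact key.trans inf_le_right

theorem cent_of_le (hD : IsPGroup b T) (hY : IsPGroup c Y) (bc : b ≠ c) (hn : Y ≤ 𝐍(T))
    (h : ⁅T, Y⁆ ≤ 𝐂(Y)) : T ≤ 𝐂(Y) :=
  le_cent_symm (coprime_commGG1P hn (coprime_of_isPGroup_ne hD hY bc) (.inl (sol_of_isPGroup hD))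
    (commutator_eq_bot_iff.2 h))

/-- a group of rank two acting on a cyclic group of odd prime power order or of prime order -/
theorem exists_cent (hB : IsEp b 2 B H) (hZ : IsEp a 1 Z K) (hn : B ≤ 𝐍(Z)) (ab : a ≠ b) :
    ∃ Y, IsEp b 1 Y B ∧ Z ≤ 𝐂(Y) := by
  obtain ⟨Y, h1, h2⟩ := Pf.B7.exists_isEp_one_cent_ne_bot hB (hZ.ne_bot one_ne_zero) hn
    (coprime_of_isPGroup_ne hZ.isPGroup hB.isPGroup ab)
  exact ⟨Y, h1, hZ.le_of_inf_ne_bot h2⟩

theorem cent_of_lt (hZ : IsPGroup b Z) (hc : IsCyclic Z) (hR : IsPGroup a R) (hn : R ≤ 𝐍(Z))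
    (h : b < a) : R ≤ 𝐂(Z) := by
  have h0 := IsSdprod.of_coprime hn (coprime_of_isPGroup_ne hZ hR h.ne)
  have h1 := cyclic_pdiv_normal_complement (h0.hall_left (piGrp_singleton hZ)
    (piGrp_compl_of_isPGroup hR h.ne')).syl hc fun q hq hd => by
      rcases h0.piGrp (π := {a, b}) (piGrp_of_isPGroup hZ (by simp)) (piGrp_of_isPGroup hR (by simp))
        q hq hd with rfl | rfl
      exacts [h.le, le_rfl]
  refine ((h1.hall_left (Op'_piGrp _ _) (piGrp_singleton hZ).compl_compl).le_of_normal_hall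
    h1.normal.norm le_sup_right (piGrp_compl_of_isPGroup hR h.ne')).trans ?_
  exact le_cent_of_inf_eq_bot (h1.left_le.trans h0.normal.norm) (h1.right_le.trans h1.normal.norm)
    h1.inf_eq

omit ha hb hc in
theorem le_Fit_of (hs : Sol K) (hX : X ≤ K)
    (h : ∀ (a : ℕ) (_ : Fact a.Prime), Op a K ≠ ⊥ → X ≤ 𝐂(Op a K)) : X ≤ Fit K :=
  (le_inf hX (le_cent_Fit_of_forall fun a ha => by
    by_cases e : Op a K = ⊥
    · rw [e]; exact le_cent_symm bot_le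
    · exact h a ha e)).trans (cent_sub_Fitting hs)

theorem mem_of_Op (hp : PiGrp π K) (h : Op a K ≠ ⊥) : a ∈ π :=
  mem_of_isPGroup_of_piGrp (Op_isPGroup a K) h (hp.of_le (Op_le _ _))

theorem cyc_end (hs : Sol L) (hp : PiGrp {a, b} L) (h : b < a) (h1 : IsCyclic (Op a L))
    (h2 : IsCyclic (Op b L)) (hB : IsEp a 2 B L) : False := by
  obtain ⟨R, hR, hBR⟩ := exists_syl_ge hB.le hB.isPGroup
  have hd : der L ≤ Fit L := le_Fit_of hs (der_le _) fun c _ e => by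
    rcases mem_of_Op hp e with rfl | rfl
    exacts [commutator_le_centralizer_of_isCyclic h1 (Op_normal _ _).norm (Op_normal _ _).norm,
      commutator_le_centralizer_of_isCyclic h2 (Op_normal _ _).norm (Op_normal _ _).norm]
  have hF : Fit L ≤ 𝐍(R) := Fit_le_of_forall fun c _ => by
    by_cases e : Op c L = ⊥
    · rw [e]; exact bot_le
    rcases mem_of_Op hp e with rfl | rfl
    · exact le_norm_of_le (Op_le_syl hR)
    · exact le_norm_of_le_cent (le_cent_symm (cent_of_lt (Op_isPGroup _ _) h2 hR.isPGroup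
        (hR.le.trans (Op_normal _ _).norm) h))
  have hle : R ⊔ Fit L ≤ L := sup_le hR.le (Fit_le _)
  have hn : L ≤ 𝐍(R) := (le_norm_of_der_le (hd.trans le_sup_right) hle).trans
    ((hR.mono le_sup_left hle).norm_le_norm_of_normal (sup_le (le_norm_self _) hF))
  exact hB.not_isCyclic le_rfl (isCyclic_of_le' h1 (Op_eq_of_normal_syl hR hn ▸ hBR))

theorem exists_norm_one (hD : IsPGroup b D) (h0 : D ≠ ⊥) (h : rp b D ≤ 1) (hn : L ≤ 𝐍(D)) :
    ∃ Z, IsEp b 1 Z D ∧ L ≤ 𝐍(Z) := by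
  obtain ⟨Z, hZ, hle⟩ := exists_minNormalBy h0 hn
  have h1 := isEp_rp_of_abelem (hZ.abelem_of_isPGroup (hD.to_le hle)) hle
  have h2 := rp_pos_iff.2 (dvd_card_of_isPGroup (hD.to_le hle) hZ.ne_bot)
  exact ⟨Z, (show rp b Z = 1 by have := rp_mono b hle; omega) ▸ h1, hZ.norm⟩

theorem exists_edge {g : G} (h : orderOf g = a * b) :
    ∃ X Y, IsEp a 1 X (zpowers g) ∧ IsEp b 1 Y (zpowers g) ∧ X ≤ 𝐂(Y) := by
  obtain ⟨X, hX⟩ := exists_isEp_one (p := a) (H := zpowers g) (by simp [h])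
  obtain ⟨Y, hY⟩ := exists_isEp_one (p := b) (H := zpowers g) (by simp [h])
  exact ⟨X, Y, hX, hY, le_cent_mono (ab_of_isCyclic inferInstance).le_cent hX.le hY.le⟩

theorem eq_or_eq (hX : IsEp a 1 X H) (hY : IsEp b 1 Y H) (ab : a ≠ b) (h : X ≤ 𝐂(Y))
    (hZ : Z ≤ X ⊔ Y) (hp : (♯Z).Prime) : Z = X ∨ Z = Y := by
  have key : ∀ {a b : ℕ} [Fact a.Prime] [Fact b.Prime] {X Y : Subgroup G}, IsEp a 1 X H →
      IsEp b 1 Y H → a ≠ b → X ≤ 𝐂(Y) → Z ≤ X ⊔ Y → ♯Z = a → Z = X := fun hX hY ab h hZ e => by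
    have h0 := IsSdprod.of_coprime (le_norm_of_le_cent (le_cent_symm h))
      (coprime_of_isPGroup_ne hX.isPGroup hY.isPGroup ab)
    exact eq_of_le_of_card_le ((h0.hall_left hX.piGrp (piGrp_compl_of_isPGroup hY.isPGroup
      ab.symm)).le_of_normal_hall h0.normal.norm hZ (isEp_one_iff.2 ⟨le_rfl, e⟩).piGrp)
      (hX.card_one.trans e.symm).le
  rcases ((piGrp_of_isPGroup (π := {a, b}) hX.isPGroup (by simp)).sup (piGrp_of_isPGroup
    hY.isPGroup (by simp)) (.inl (le_norm_of_le_cent h))).of_le hZ _ hp dvd_rfl with e | e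
  exacts [.inl (key hX hY ab h hZ e), .inr (key hY hX ab.symm (le_cent_symm h) (sup_comm X Y ▸ hZ) e)]

end Cfsg.Agent.Wal.K4
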