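import Cfsg.Agent.Lib.Wal.FourA

/-!
# A solvable group with four pairwise joined primes has an element of order `abc`
-/

set_option autoImplicit false

namespace Cfsg.Agent.Wal.K4

open Subgroup Cfsg.Agent.OO Cfsg.Agent.Coprime Cfsg.Agent.GW
open scoped commutatorElement Pointwise

universe u

variable {G : Type u} [Group G] [Finite G] {B D H K L M R T V W X Y Z : Subgroup G}
  {a b c p q r s : ℕ} {π : Set ℕ}

variable (G) in
/-- all primes are joined, but no three of them -/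
structure Cf : Prop where
  sol : ∀ H : Subgroup G, Sol H
  nt : ∀ {a b c : ℕ} [Fact a.Prime] [Fact b.Prime] [Fact c.Prime] {X Y Z : Subgroup G},
    IsPGroup a X → IsPGroup b Y → IsPGroup c Z → a ≠ b → a ≠ c → b ≠ c → X ≠ ⊥ → Y ≠ ⊥ → Z ≠ ⊥ →
    X ≤ 𝐂(Y) → X ≤ 𝐂(Z) → Y ≤ 𝐂(Z) → False
  ed : ∀ (a b : ℕ) [Fact a.Prime] [Fact b.Prime], a ≠ b → a ∣ ♯(⊤ : Subgroup G) →
    b ∣ ♯(⊤ : Subgroup G) → ∃ X Y : Subgroup G, IsEp a 1 X ⊤ ∧ IsEp b 1 Y ⊤ ∧ X ≤ 𝐂(Y)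

variable (G p q r s) in
/-- the four primes -/
structure Lab : Prop where
  pq : p ≠ q
  pr : p ≠ r
  ps : p ≠ s
  qr : q ≠ r
  qs : q ≠ s
  rs : r ≠ s
  dp : p ∣ ♯(⊤ : Subgroup G)
  dq : q ∣ ♯(⊤ : Subgroup G)
  dr : r ∣ ♯(⊤ : Subgroup G)
  ds : s ∣ ♯(⊤ : Subgroup G)
  pi : ∀ a, a.Prime → a ∣ ♯(⊤ : Subgroup G) → a = p ∨ a = q ∨ a = r ∨ a = s

variable (L r s) in
/-- properties of a Hall `{r, s}`-subgroup -/
structure Two : Prop where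
  pi : PiGrp {r, s} L
  e1 : ∃ B, IsEp r 2 B L
  e2 : ∃ B, IsEp s 2 B L
  ed : ∃ X Y, IsEp r 1 X L ∧ IsEp s 1 Y L ∧ X ≤ 𝐂(Y)

omit [Finite G] in
theorem Two.symm (h : Two L r s) : Two L s r :=
  ⟨Set.pair_comm r s ▸ h.pi, h.e2, h.e1,
    let ⟨X, Y, h1, h2, h3⟩ := h.ed; ⟨Y, X, h2, h1, le_cent_symm h3⟩⟩

namespace Lab

omit [Finite G]
variable (l : Lab G p q r s)
include l

theorem s12 : Lab G q p r s :=
  ⟨l.pq.symm, l.qr, l.qs, l.pr, l.ps, l.rs, l.dq, l.dp, l.dr, l.ds, fun a h1 h2 => by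
    have := l.pi a h1 h2; tauto⟩

theorem s23 : Lab G p r q s :=
  ⟨l.pr, l.pq, l.ps, l.qr.symm, l.rs, l.qs, l.dp, l.dr, l.dq, l.ds, fun a h1 h2 => by
    have := l.pi a h1 h2; tauto⟩

theorem s34 : Lab G p q s r :=
  ⟨l.pq, l.ps, l.pr, l.qs, l.qr, l.rs.symm, l.dp, l.dq, l.ds, l.dr, fun a h1 h2 => by
    have := l.pi a h1 h2; tauto⟩

theorem mem [Finite G] [ha : Fact a.Prime] (hX : IsPGroup a X) (h0 : X ≠ ⊥) :
    a = p ∨ a = q ∨ a = r ∨ a = s :=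
  l.pi a ha.out ((dvd_card_of_isPGroup hX h0).trans (card_dvd le_top))

end Lab

namespace Cf

variable [ha : Fact a.Prime] [hb : Fact b.Prime] [hc : Fact c.Prime] [hp : Fact p.Prime]
  [hq : Fact q.Prime] [hr : Fact r.Prime] [hs : Fact s.Prime] (h : Cf G)
include h

theorem rk1 (hV : IsPGroup a V) (hY : IsPGroup b Y) (hB : IsEp c 2 B H) (ab : a ≠ b) (ac : a ≠ c)
    (bc : b ≠ c) (h0 : Y ≠ ⊥) (h1 : B ≤ 𝐍(V)) (h2 : B ≤ 𝐂(Y)) : V ⊓ 𝐂(Y) = ⊥ := by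
  by_contra e
  obtain ⟨X, hX, e'⟩ := Pf.B7.exists_isEp_one_cent_ne_bot hB e
    (le_norm_inf h1 (le_norm_cent (le_norm_of_le_cent h2)))
    (coprime_of_isPGroup_ne hV.to_inf_left hB.isPGroup ac)
  exact h.nt hV.to_inf_left.to_inf_left hY hX.isPGroup ab ac bc e' h0 (hX.ne_bot one_ne_zero)
    (inf_le_left.trans inf_le_right) inf_le_right (le_cent_symm (hX.le.trans h2))

omit [Finite G] in
theorem nt' (hV : IsPGroup a V) (hX : IsPGroup b X) (hY : IsPGroup c Y) (ab : a ≠ b) (ac : a ≠ c)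
    (bc : b ≠ c) (h1 : X ≠ ⊥) (h2 : Y ≠ ⊥) (h3 : X ≤ 𝐂(Y)) (h4 : V ≤ 𝐂(X)) : V ⊓ 𝐂(Y) = ⊥ := by
  by_contra e
  exact h.nt hV.to_inf_left hX hY ab ac bc e h1 h2 (inf_le_left.trans h4) inf_le_right h3

theorem rk (l : Lab G p q r s) : 2 ≤ rp p (⊤ : Subgroup G) := by
  by_contra hlt
  obtain ⟨P, hP⟩ := exists_syl p (⊤ : Subgroup G)
  obtain ⟨Z, hZ⟩ := exists_isEp_one_of_isPGroup (hP.isPGroup.to_le (Zc_le P))
    (Zc_ne_bot hP.nil (hP.ne_bot l.dp))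
  have key : ∀ (a : ℕ) [Fact a.Prime], p ≠ a → a ∣ ♯(⊤ : Subgroup G) → a ∣ ♯𝐂(Z) := fun a _ h1 h2 => by
    obtain ⟨X, Y, hX, hY, hc⟩ := h.ed p a h1 l.dp h2
    obtain ⟨g, -, hg⟩ := hP.exists_conj_le le_top hX.isPGroup
    have e : Z = g •ᶜ X := by
      by_contra e
      exact hlt (IsEp.sup_two hZ.top (hX.conj g).top (hg.trans (le_cent_symm
        (hZ.le.trans (Zc_le_cent P)))) e).le_rp
    exact ((hY.conj g).of_le (e ▸ conj_le_cent_conj.2 (le_cent_symm hc))).dvd_card one_ne_zero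
  have fin : ∀ (a b : ℕ) [Fact a.Prime] [Fact b.Prime], p ≠ a → p ≠ b → a ≠ b →
      ¬ ∃ g : 𝐂(Z), orderOf g = a * b := fun a b _ _ h1 h2 h3 ⟨g, hg⟩ => by
    obtain ⟨X, Y, hX, hY, hc⟩ := exists_edge ((Subgroup.orderOf_coe g).trans hg)
    exact h.nt hZ.isPGroup hX.isPGroup hY.isPGroup h1 h2 h3 (hZ.ne_bot one_ne_zero)
      (hX.ne_bot one_ne_zero) (hY.ne_bot one_ne_zero)
      (le_cent_symm (hX.le.trans (zpowers_le.2 g.2))) (le_cent_symm (hY.le.trans (zpowers_le.2 g.2))) hc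
  rcases lucido (h.sol 𝐂(Z)) hq.out hr.out hs.out l.qr l.qs l.rs (key q l.pq l.dq) (key r l.pr l.dr)
    (key s l.ps l.ds) with e | e | e
  exacts [fin q r l.pq l.pr l.qr e, fin q s l.pq l.ps l.qs e, fin r s l.pr l.ps l.rs e]

theorem two (l : Lab G p q r s) (hL : Hall {r, s} L ⊤) : Two L r s := by
  refine ⟨hL.piGrp, exists_isEp (rp_hall hL (by simp : r ∈ ({r, s} : Set ℕ)) ▸ h.rk l.s23.s12),
    exists_isEp (rp_hall hL (by simp : s ∈ ({r, s} : Set ℕ)) ▸ h.rk l.s34.s23.s12), ?_⟩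
  obtain ⟨X, Y, hX, hY, hc⟩ := h.ed r s l.rs l.dr l.ds
  obtain ⟨g, -, hg⟩ := hL.exists_conj_le (h.sol _) le_top ((piGrp_of_isPGroup hX.isPGroup
    (by simp)).sup (piGrp_of_isPGroup hY.isPGroup (by simp)) (.inl (le_norm_of_le_cent hc)))
  rw [conj_sup, sup_le_iff] at hg
  exact ⟨_, _, (hX.conj g).of_le hg.1, (hY.conj g).of_le hg.2, conj_le_cent_conj.2 hc⟩

/-! ### Two primes divide the order of the Fitting subgroup -/

section A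

variable (l : Lab G p q r s) (hL : Two L r s) (hV : IsPGroup p V) (hW : IsPGroup q W)
  (V0 : V ≠ ⊥) (W0 : W ≠ ⊥) (VW : V ≤ 𝐂(W)) (LV : L ≤ 𝐍(V)) (LW : L ≤ 𝐍(W))
include l hL hV hW V0 W0 VW LV LW

omit W0 LW hr in
theorem exists_fix : ∃ Y, IsEp s 1 Y L ∧ V ⊓ 𝐂(Y) ≠ ⊥ ∧ W ⊓ 𝐂(Y) = ⊥ := by
  obtain ⟨E, hE⟩ := hL.e2
  obtain ⟨Y, hY, e⟩ := Pf.B7.exists_isEp_one_cent_ne_bot hE V0 (hE.le.trans LV)
    (coprime_of_isPGroup_ne hV hE.isPGroup l.ps)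
  exact ⟨Y, hY.mono hE.le, e, h.nt' hW hV.to_inf_left hY.isPGroup l.pq.symm l.qs l.ps e
    (hY.ne_bot one_ne_zero) inf_le_right (le_cent_symm (inf_le_left.trans VW))⟩

omit W0 in
theorem A0 (hF : L ⊓ 𝐂(V) ⊓ 𝐂(W) = ⊥) (hT : IsElementaryAbelian r T) (h1 : T ≤ L ⊓ 𝐂(V))
    (h2 : L ≤ 𝐍(T)) : T = ⊥ := by
  obtain ⟨Y, hY, e1, e2⟩ := h.exists_fix l hL hV hW V0 VW LV
  have e3 := hh hW (abelem_isPGroup hT) hY l.qr l.qs l.rs (.inl (abelem_ab hT)) (hY.le.trans h2)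
    (h1.trans (inf_le_left.trans LW)) (hY.le.trans LW) e2
  by_contra T0
  exact e1 (h.nt' hV (abelem_isPGroup hT) hY.isPGroup l.pr l.ps l.rs T0 (hY.ne_bot one_ne_zero)
    (commutator_eq_bot_iff.1 (eq_bot_iff.2 (hF ▸ le_inf
      ((commutator_le_left' (hY.le.trans h2)).trans h1) e3))) (le_cent_symm (h1.trans inf_le_right)))

omit W0 in
theorem A1 (hF : L ⊓ 𝐂(V) ⊓ 𝐂(W) = ⊥) : L ⊓ 𝐂(V) = ⊥ := by
  by_contra e
  obtain ⟨T, h1, h2, h3, a, ha, h4⟩ := exists_norm_abelem (h.sol _) e (normalIn_inf_cent LV).norm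
  have := Fact.mk ha
  rcases mem_of_isPGroup_of_piGrp (abelem_isPGroup h4) h3 (hL.pi.of_le (h1.trans inf_le_left))
    with rfl | rfl
  exacts [h3 (h.A0 l hL hV hW V0 VW LV LW hF h4 h1 h2),
    h3 (h.A0 l.s34 hL.symm hV hW V0 VW LV LW hF h4 h1 h2)]

omit W0 in
theorem A2 (hF : L ⊓ 𝐂(W) = ⊥) : s ≠ 2 ∧ (r ≠ 2 → IsCyclic (Op r L)) := by
  obtain ⟨Y, hY, e1, e2⟩ := h.exists_fix l hL hV hW V0 VW LV
  have key : ∀ B, IsEp r 2 B L → ¬ B ≤ 𝐂(Y) := fun B hB e => e1 (h.rk1 hV hY.isPGroup hB l.ps l.pr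
    l.rs.symm (hY.ne_bot one_ne_zero) (hB.le.trans LV) e)
  refine ⟨?_, fun r2 => (isCyclic_iff_rp_of_odd (Op_isPGroup r L) (odd_of_ne (Op_isPGroup r L) r2)).2
    (not_lt.1 fun e => ?_)⟩
  · rintro rfl
    obtain ⟨B, hB⟩ := hL.e1
    exact key B hB (commutator_eq_bot_iff.1 (eq_bot_iff.2 (hF ▸ le_inf (commutator_le_of_le hB.le hY.le)
      (inv_comm hY (hB.le.trans LW) (hY.le.trans LW) e2))))
  · obtain ⟨B, hB⟩ := exists_isEp e
    exact key B (hB.mono (Op_le _ _)) (hB.le.trans (commutator_eq_bot_iff.1 (eq_bot_iff.2 (hF ▸ le_inf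
      (commutator_le_of_le (Op_le _ _) hY.le) (hh hW (Op_isPGroup r L) hY l.qr l.qs l.rs (.inr r2)
        (hY.le.trans (Op_normal _ _).norm) ((Op_le _ _).trans LW) (hY.le.trans LW) e2)))))

omit V0 in
theorem caseA (hF : L ⊓ 𝐂(V) ⊓ 𝐂(W) = ⊥) (V0 : V ≠ ⊥) : False := by
  have h1 := h.A1 l.s12 hL hW hV W0 (le_cent_symm VW) LW LV (inf_right_comm L 𝐂(V) 𝐂(W) ▸ hF)
  obtain ⟨s2, h2⟩ := h.A2 l hL hV hW V0 VW LV LW h1
  obtain ⟨r2, h3⟩ := h.A2 l.s34 hL.symm hV hW V0 VW LV LW h1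
  rcases l.rs.lt_or_gt with e | e
  · exact cyc_end (h.sol _) hL.symm.pi e (h3 s2) (h2 r2) hL.e2.choose_spec
  · exact cyc_end (h.sol _) hL.pi e (h2 r2) (h3 s2) hL.e1.choose_spec

end A

/-! ### The Fitting subgroup is a `p`-group -/

section B

variable (l : Lab G p q r s) (hL : Two L r s) (hV : IsPGroup p V) (hW : IsPGroup q W)
  (W0 : W ≠ ⊥) (WV : W ≤ 𝐍(V)) (hF : W ⊓ 𝐂(V) = ⊥) (LV : L ≤ 𝐍(V)) (LW : L ≤ 𝐍(W))
include l hL hV hW W0 WV hF LV LW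

theorem fin (hD : IsPGroup r D) (hn : D ⊴ L) (D0 : D ≠ ⊥) (h1 : rp r D ≤ 1) (DW : D ≤ 𝐂(W))
    (h2 : IsCyclic D → der L ⊓ 𝐂(W) ≤ D) : False := by
  obtain ⟨Z, hZ, LZ⟩ := exists_norm_one hD D0 h1 hn.norm
  obtain ⟨E, hE⟩ := hL.e2
  obtain ⟨B, hB⟩ := hL.e1
  have k1 : ∀ E, IsEp s 2 E L → ¬ E ≤ 𝐂(Z) := fun E hE e => W0 (by
    have := h.rk1 hW hZ.isPGroup hE l.qr l.qs l.rs (hZ.ne_bot one_ne_zero) (hE.le.trans LW) e
    rwa [inf_eq_left.2 (le_cent_symm (hZ.le.trans DW))] at this)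
  have r2 : r ≠ 2 := by
    rintro rfl
    exact k1 E hE (cent_of_lt hZ.isPGroup hZ.isCyclic hE.isPGroup (hE.le.trans LZ)
      (hs.out.two_le.lt_of_ne l.rs))
  have hc := (isCyclic_iff_rp_of_odd hD (odd_of_ne hD r2)).2 h1
  obtain ⟨Y, hY, ZY⟩ := exists_cent hE hZ (hE.le.trans LZ) l.rs
  replace hY := hY.mono hE.le
  have Y0 := hY.ne_bot one_ne_zero
  have DY : D ≤ 𝐂(Y) := le_cent_symm (Pf.B13.le_cent_of_isCyclic hD hc (hY.le.trans hn.norm)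
    (coprime_of_isPGroup_ne hD hY.isPGroup l.rs)
    (ne_bot_of_le_ne_bot (hZ.ne_bot one_ne_zero) (le_inf hZ.le ZY)))
  have WY := h.nt' hW hD hY.isPGroup l.qr l.qs l.rs D0 Y0 DY (le_cent_symm DW)
  have VY : V ⊓ 𝐂(Y) ≠ ⊥ := fun e => W0 (eq_bot_iff.2 (hF ▸ le_inf le_rfl (fr0 (π := {q, s})
    (semiregular_prime hY.prime_card WY) (hY.le.trans LW) Y0 WV (hY.le.trans LV)
    (piGrp_of_isPGroup hV (pi2 l.pq l.ps)) (piGrp_of_isPGroup hW (by simp))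
    (piGrp_of_isPGroup hY.isPGroup (by simp)) (h.sol _) e)))
  have k2 : ∀ R ≤ L, IsPGroup r R → Y ≤ 𝐍(R) → rp r R ≤ 1 := fun R hR hR' hn' => not_lt.1 fun e => by
    obtain ⟨B, hB⟩ := exists_isEp e
    refine VY (h.rk1 hV hY.isPGroup hB l.ps l.pr l.rs.symm Y0 (hB.le.trans (hR.trans LV))
      (hB.le.trans (cent_of_le hR' hY.isPGroup l.rs hn' ((le_inf (commutator_mono hR hY.le)
        (hh hW hR' hY l.qr l.qs l.rs (.inr r2) hn' (hR.trans LW) (hY.le.trans LW) WY)).trans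
          ((h2 hc).trans DY)))))
  rcases eq_or_ne s 2 with rfl | s2
  · obtain ⟨R, hR⟩ := exists_syl r L
    have := k2 R hR.le hR.isPGroup (commutator_le_left_iff.1 ((le_inf (commutator_mono hR.le hY.le)
      (inv_comm hY (hR.le.trans LW) (hY.le.trans LW) WY)).trans ((h2 hc).trans (hR.le_of_normal hn hD))))
    have := hB.le_rp
    rw [rp_syl hR] at *
    omega
  have c1 := (isCyclic_iff_rp_of_odd (Op_isPGroup r L) (odd_of_ne (Op_isPGroup r L) r2)).2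
    (k2 _ (Op_le _ _) (Op_isPGroup _ _) (hY.le.trans (Op_normal _ _).norm))
  have c2 := (isCyclic_iff_rp_of_odd (Op_isPGroup s L) (odd_of_ne (Op_isPGroup s L) s2)).2
    (not_lt.1 fun e => let ⟨E, hE⟩ := exists_isEp e; k1 E (hE.mono (Op_le _ _)) (hE.le.trans
      ((Op_le_cent_Op l.rs.symm L).trans (cent_anti (hZ.le.trans (le_Op hn hD))))))
  rcases l.rs.lt_or_gt with e | e
  · exact cyc_end (h.sol _) hL.symm.pi e c2 c1 hE
  · exact cyc_end (h.sol _) hL.pi e c1 c2 hB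

theorem big0 (LF : L ⊓ 𝐂(V) = ⊥) (hB : IsEp q 2 B W) (hT : IsPGroup r T) (T0 : T ≠ ⊥)
    (h1 : T ≤ L ⊓ 𝐂(W)) (h2 : L ≤ 𝐍(T)) : False := by
  have key : ∀ (a : ℕ) [Fact a.Prime] (X : Subgroup G), p ≠ a → a ≠ q → IsEp a 1 X (L ⊓ 𝐂(W)) →
      V ⊓ 𝐂(X) = ⊥ := fun a _ X e1 e2 hX => h.rk1 hV hX.isPGroup hB e1 l.pq e2 (hX.ne_bot one_ne_zero)
    (hB.le.trans WV) (hB.le.trans (le_cent_symm (hX.le.trans inf_le_right)))
  have hD : IsPGroup r ↥(L ⊓ 𝐂(W)) := PiGrp.isPGroup fun a ha hd => by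
    rcases hL.pi.inf_left _ a ha hd with rfl | rfl
    · rfl
    obtain ⟨Y, hY⟩ := exists_isEp_one hd
    have Y0 := hY.ne_bot one_ne_zero
    have YL := hY.le.trans inf_le_left
    have e : T ⊓ 𝐂(Y) = ⊥ := h.nt' hT hW hY.isPGroup l.qr.symm l.rs l.qs W0 Y0
      (le_cent_symm (hY.le.trans inf_le_right)) (h1.trans inf_le_right)
    exact (T0 (eq_bot_iff.2 (LF ▸ le_inf (h1.trans inf_le_left) (fr0 (π := {r, a})
      (semiregular_prime hY.prime_card e) (YL.trans h2) Y0 (h1.trans (inf_le_left.trans LV))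
      (YL.trans LV) (piGrp_of_isPGroup hV (pi2 l.pr l.ps)) (piGrp_of_isPGroup hT (by simp))
      (piGrp_of_isPGroup hY.isPGroup (by simp)) (h.sol _) (key a Y l.ps l.qs.symm hY))))).elim
  refine h.fin l hL hV hW W0 WV hF LV LW hD (normalIn_inf_cent LW) (ne_bot_of_le_ne_bot T0 h1)
    (not_lt.1 fun e => ?_) inf_le_right fun _ => inf_le_inf_right _ (der_le _)
  obtain ⟨E, hE⟩ := exists_isEp e
  obtain ⟨X, hX, e'⟩ := Pf.B7.exists_isEp_one_cent_ne_bot hE (Q := V)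
    (fun e => W0 (by rwa [e, inf_eq_left.2 (le_cent_symm bot_le)] at hF))
    (hE.le.trans (inf_le_left.trans LV)) (coprime_of_isPGroup_ne hV hE.isPGroup l.pr)
  exact e' (key r X l.pr l.qr.symm (hX.mono hE.le))

theorem big (LF : L ⊓ 𝐂(V) = ⊥) (hB : IsEp q 2 B W) : L ⊓ 𝐂(W) = ⊥ := by
  by_contra e
  obtain ⟨T, h1, h2, h3, a, ha, h4⟩ := exists_norm_abelem (h.sol _) e (normalIn_inf_cent LW).norm
  have := Fact.mk ha
  rcases mem_of_isPGroup_of_piGrp (abelem_isPGroup h4) h3 (hL.pi.of_le (h1.trans inf_le_left))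
    with rfl | rfl
  exacts [h.big0 l hL hV hW W0 WV hF LV LW LF hB (abelem_isPGroup h4) h3 h1 h2,
    h.big0 l.s34 hL.symm hV hW W0 WV hF LV LW LF hB (abelem_isPGroup h4) h3 h1 h2]

omit hL W0 in
theorem xy0 (ho : Ab W ∨ q ≠ 2) (hX : IsEp r 1 X L) (hY : IsEp s 1 Y L) (XY : X ≤ 𝐂(Y))
    (e : W ⊓ 𝐂(X) ≠ ⊥) : X ≤ 𝐂(W) := by
  have X0 := hX.ne_bot one_ne_zero
  have Y0 := hY.ne_bot one_ne_zero
  have YX := le_norm_cent (le_norm_of_le_cent (le_cent_symm XY))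
  have e1 := fr0 (π := {q, s}) (M := V ⊓ 𝐂(X)) (semiregular_prime hY.prime_card (h.nt' hW.to_inf_left
    hX.isPGroup hY.isPGroup l.qr l.qs l.rs X0 Y0 XY inf_le_right)) (le_norm_inf (hY.le.trans LW) YX) Y0
    (le_norm_inf (inf_le_left.trans WV) (le_norm_of_le inf_le_right)) (le_norm_inf (hY.le.trans LV) YX)
    (piGrp_of_isPGroup hV.to_inf_left (pi2 l.pq l.ps)) (piGrp_of_isPGroup hW.to_inf_left (by simp))
    (piGrp_of_isPGroup hY.isPGroup (by simp)) (h.sol _)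
    (h.nt' hV.to_inf_left hX.isPGroup hY.isPGroup l.pr l.ps l.rs X0 Y0 XY inf_le_right)
  have e2 : V ⊓ 𝐂(X) = ⊥ := by
    by_contra e2
    exact h.nt hV.to_inf_left hW.to_inf_left hX.isPGroup l.pq l.pr l.qr e2 e X0 (le_cent_symm e1)
      inf_le_right inf_le_right
  exact commutator_eq_bot_iff'.1 (eq_bot_iff.2 (hF ▸ le_inf (commutator_le_left' (hX.le.trans LW))
    (hh hV hW hX l.pq l.pr l.qr ho (hX.le.trans LW) WV (hX.le.trans LV) e2)))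

theorem xy (ho : Ab W ∨ q ≠ 2) : L ⊓ 𝐂(W) ≠ ⊥ := fun e => by
  obtain ⟨X, Y, hX, hY, XY⟩ := hL.ed
  have X0 := hX.ne_bot one_ne_zero
  have Y0 := hY.ne_bot one_ne_zero
  have e1 : W ⊓ 𝐂(X) = ⊥ := by_contra fun e1 => X0 (eq_bot_iff.2 (e ▸ le_inf hX.le
    (h.xy0 l hV hW WV hF LV LW ho hX hY XY e1)))
  have e2 : W ⊓ 𝐂(Y) = ⊥ := by_contra fun e2 => Y0 (eq_bot_iff.2 (e ▸ le_inf hY.le
    (h.xy0 l.s34 hV hW WV hF LV LW ho hY hX (le_cent_symm XY) e2)))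
  have hle := sup_le hX.le hY.le
  refine W0 (eq_bot_iff.2 (hF ▸ le_inf le_rfl (fr0 (π := {p}ᶜ) (R := X ⊔ Y)
    (semiregular_of_prime_subgroup fun Z hZ hp => ?_) (hle.trans LW) (ne_bot_of_le_ne_bot X0 le_sup_left)
    WV (hle.trans LV) (piGrp_singleton hV).compl_compl (piGrp_compl_of_isPGroup hW l.pq.symm)
    ((piGrp_compl_of_isPGroup hX.isPGroup l.pr.symm).sup (piGrp_compl_of_isPGroup hY.isPGroup l.ps.symm)
      (.inl (le_norm_of_le_cent XY))) (h.sol _) ?_)))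
  · rcases eq_or_eq hX hY l.rs XY hZ hp with rfl | rfl <;> assumption
  · rw [cent_sup, ← inf_assoc]
    exact h.nt' hV.to_inf_left hX.isPGroup hY.isPGroup l.pr l.ps l.rs X0 Y0 XY inf_le_right

end B

section C

variable (l : Lab G p q r s) (hK : Hall {p}ᶜ K ⊤) (hV : IsPGroup p V) (KV : K ≤ 𝐍(V))
  (hF : K ⊓ 𝐂(V) = ⊥)
include l hK

omit h hp hq hr hs in
theorem mem3 (h0 : Op a K ≠ ⊥) : a = q ∨ a = r ∨ a = s :=
  (l.mem (Op_isPGroup a K) h0).resolve_left (mem_of_Op hK.piGrp h0)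

theorem exists_two : ∃ L, Hall {r, s} L K ∧ Two L r s :=
  let ⟨L, hL⟩ := exists_hall {r, s} (h.sol K)
  ⟨L, hL, h.two l (hL.trans hK (by simp [l.pr, l.ps]))⟩

include hV KV hF

theorem B3 (h1 : Op q K ≠ ⊥) (h2 : Op r K ≠ ⊥) (h3 : rp r (Op r K) ≤ 1) : False := by
  obtain ⟨L, hL, hL'⟩ := h.exists_two l hK
  have h4 : Op s K = ⊥ := by_contra fun e => h.nt (Op_isPGroup q K) (Op_isPGroup r K) (Op_isPGroup s K)
    l.qr l.qs l.rs h1 h2 e (Op_le_cent_Op l.qr K) (Op_le_cent_Op l.qs K) (Op_le_cent_Op l.rs K)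
  have hle := hL.le_of_normal (Op_normal r K) (piGrp_of_isPGroup (Op_isPGroup r K) (by simp))
  have hn := hL.le.trans (Op_normal r K).norm
  refine h.fin l hL' hV (Op_isPGroup q K) h1 ((Op_le _ _).trans KV)
    (eq_bot_iff.2 (hF ▸ inf_le_inf_right _ (Op_le _ _))) (hL.le.trans KV)
    (hL.le.trans (Op_normal _ _).norm) (Op_isPGroup r K) ⟨hle, hn⟩ h2 h3 (Op_le_cent_Op l.qr.symm K)
    fun hc => le_of_forall_isPGroup fun a _ Q hQ hQ' => ?_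
  have QL := hQ.trans (inf_le_left.trans (der_le _))
  have h5 := le_Op_of_le_Fit hQ' (le_Fit_of (h.sol K) (QL.trans hL.le) fun b _ e => by
    rcases mem3 l hK e with rfl | rfl | rfl
    exacts [hQ.trans inf_le_right, hQ.trans (inf_le_left.trans
      (commutator_le_centralizer_of_isCyclic hc hn hn)), (e h4).elim])
  rcases eq_or_ne Q ⊥ with rfl | Q0
  · exact bot_le
  rcases mem_of_isPGroup_of_piGrp hQ' Q0 (hL'.pi.of_le QL) with rfl | rfl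
  exacts [h5, (Q0 (eq_bot_iff.2 (h4 ▸ h5))).elim]

theorem B2 (h1 : Op q K ≠ ⊥) (h2 : Op r K ≠ ⊥) : False := by
  by_cases e1 : rp r (Op r K) ≤ 1
  · exact h.B3 l hK hV KV hF h1 h2 e1
  by_cases e2 : rp q (Op q K) ≤ 1
  · exact h.B3 l.s23 hK hV KV hF h2 h1 e2
  obtain ⟨B, hB⟩ := exists_isEp (not_le.1 e1)
  obtain ⟨E, hE⟩ := exists_isEp (not_le.1 e2)
  obtain ⟨X, hX, e⟩ := Pf.B7.exists_isEp_one_cent_ne_bot hE (Q := V)
    (fun e => h1 (eq_bot_iff.2 (hF ▸ le_inf (Op_le _ _) (e ▸ le_cent_symm bot_le))))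
    (hE.le.trans ((Op_le _ _).trans KV)) (coprime_of_isPGroup_ne hV hE.isPGroup l.pq)
  exact e (h.rk1 hV hX.isPGroup hB l.pq l.pr l.qr (hX.ne_bot one_ne_zero)
    (hB.le.trans ((Op_le _ _).trans KV))
    (le_cent_mono (Op_le_cent_Op l.qr.symm K) hB.le (hX.le.trans hE.le)))

theorem B1 (h1 : Op q K ≠ ⊥) : False := by
  have h2 : Op r K = ⊥ := by_contra (h.B2 l hK hV KV hF h1)
  have h3 : Op s K = ⊥ := by_contra (h.B2 l.s34 hK hV KV hF h1)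
  obtain ⟨L, hL, hL'⟩ := h.exists_two l hK
  have hF' : ∀ W ≤ K, W ⊓ 𝐂(V) = ⊥ := fun W hW => eq_bot_iff.2 (hF ▸ inf_le_inf_right _ hW)
  rcases eq_or_ne q 2 with rfl | q2
  · obtain ⟨W, hW, hle⟩ := exists_minNormalBy h1 (Op_normal 2 K).norm
    have p2 := (Op_isPGroup 2 K).to_le hle
    have WK := hle.trans (Op_le _ _)
    have LW := hL.le.trans hW.norm
    by_cases e : rp 2 W ≤ 1
    · obtain ⟨X, Y, hX, hY, XY⟩ := hL'.ed
      have hc := (isCyclic_iff_rp_of_ab p2 (abelem_ab (hW.abelem_of_isPGroup p2))).2 e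
      exact h.nt p2 hX.isPGroup hY.isPGroup l.qr l.qs l.rs hW.ne_bot (hX.ne_bot one_ne_zero)
        (hY.ne_bot one_ne_zero)
        (le_cent_symm (cent_of_lt p2 hc hX.isPGroup (hX.le.trans LW) (hr.out.two_le.lt_of_ne l.qr)))
        (le_cent_symm (cent_of_lt p2 hc hY.isPGroup (hY.le.trans LW) (hs.out.two_le.lt_of_ne l.qs))) XY
    obtain ⟨B, hB⟩ := exists_isEp (not_le.1 e)
    exact h.xy l hL' hV p2 hW.ne_bot (WK.trans KV) (hF' W WK) (hL.le.trans KV) LW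
      (.inl (abelem_ab (hW.abelem_of_isPGroup p2))) (h.big l hL' hV p2 hW.ne_bot (WK.trans KV)
        (hF' W WK) (hL.le.trans KV) LW (hF' L hL.le) hB)
  refine h.xy l hL' hV (Op_isPGroup q K) h1 ((Op_le _ _).trans KV) (hF' _ (Op_le _ _)) (hL.le.trans KV)
    (hL.le.trans (Op_normal _ _).norm) (.inr q2)
    (eq_bot_iff.2 (le_of_forall_isPGroup fun a _ Q hQ hQ' => le_bot_iff.2 (by_contra fun Q0 => ?_)))
  have h5 := le_Op_of_le_Fit hQ' (le_Fit_of (h.sol K) (hQ.trans (inf_le_left.trans hL.le)) fun b _ e => by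
    rcases mem3 l hK e with rfl | rfl | rfl
    exacts [hQ.trans inf_le_right, (e h2).elim, (e h3).elim])
  rcases mem_of_isPGroup_of_piGrp hQ' Q0 (hL'.pi.of_le (hQ.trans inf_le_left)) with rfl | rfl
  exacts [Q0 (eq_bot_iff.2 (h2 ▸ h5)), Q0 (eq_bot_iff.2 (h3 ▸ h5))]

end C

omit ha hb hc hp hq hr hs in
theorem exists_Op (h0 : K ≠ ⊥) : ∃ (a : ℕ) (_ : Fact a.Prime), Op a K ≠ ⊥ := by
  by_contra! e
  exact h0 (eq_bot_iff.2 ((le_Fit_of (h.sol K) le_rfl fun a ha e' => (e' (e a ha)).elim).trans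
    (Fit_le_of_forall fun a ha => (e a ha).le)))

theorem caseA' (l : Lab G p q r s) (h1 : Op p (⊤ : Subgroup G) ≠ ⊥) : Op q (⊤ : Subgroup G) = ⊥ := by
  by_contra h2
  have key : ∀ (a : ℕ) [Fact a.Prime], p ≠ a → q ≠ a → Op a (⊤ : Subgroup G) = ⊥ := fun a _ e1 e2 =>
    by_contra fun e => h.nt (Op_isPGroup p ⊤) (Op_isPGroup q ⊤) (Op_isPGroup a ⊤) l.pq e1 e2 h1 h2 e
      (Op_le_cent_Op l.pq _) (Op_le_cent_Op e1 _) (Op_le_cent_Op e2 _)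
  obtain ⟨L, hL⟩ := exists_hall {r, s} (h.sol ⊤)
  refine h.caseA l (h.two l hL) (Op_isPGroup p ⊤) (Op_isPGroup q ⊤) h2 (Op_le_cent_Op l.pq _)
    (le_top.trans (Op_normal _ _).norm) (le_top.trans (Op_normal _ _).norm)
    (eq_bot_iff.2 (le_of_forall_isPGroup fun a _ Q hQ hQ' => le_bot_iff.2 (by_contra fun Q0 => ?_))) h1
  have h5 := le_Op_of_le_Fit hQ' (le_Fit_of (h.sol ⊤) le_top fun b _ e => by
    by_cases e1 : p = b
    · exact e1 ▸ hQ.trans (inf_le_left.trans inf_le_right)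
    by_cases e2 : q = b
    · exact e2 ▸ hQ.trans inf_le_right
    exact (e (key b e1 e2)).elim)
  rcases mem_of_isPGroup_of_piGrp hQ' Q0 (hL.piGrp.of_le (hQ.trans (inf_le_left.trans inf_le_left)))
    with rfl | rfl
  exacts [Q0 (eq_bot_iff.2 (key a l.pr l.qr ▸ h5)), Q0 (eq_bot_iff.2 (key a l.ps l.qs ▸ h5))]

theorem main0 (l : Lab G p q r s) : Op p (⊤ : Subgroup G) = ⊥ := by
  by_contra h1
  have key : ∀ (a : ℕ) (_ : Fact a.Prime), Op a (⊤ : Subgroup G) ≠ ⊥ → a = p := fun a _ e => by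
    rcases l.mem (Op_isPGroup a ⊤) e with rfl | rfl | rfl | rfl
    exacts [rfl, (e (h.caseA' l h1)).elim, (e (h.caseA' l.s23 h1)).elim, (e (h.caseA' l.s34.s23 h1)).elim]
  obtain ⟨K, hK⟩ := exists_hall {p}ᶜ (h.sol ⊤)
  have hF : K ⊓ 𝐂(Op p (⊤ : Subgroup G)) = ⊥ := by
    refine eq_bot_iff.2 (le_of_forall_isPGroup fun a _ Q hQ hQ' => le_bot_iff.2 (by_contra fun Q0 => ?_))
    have h5 := le_Op_of_le_Fit hQ' (le_Fit_of (h.sol ⊤) le_top fun b hb e => by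
      obtain rfl := key b hb e
      exact hQ.trans inf_le_right)
    exact mem_of_isPGroup_of_piGrp hQ' Q0 (hK.piGrp.of_le (hQ.trans inf_le_left))
      (key a inferInstance (ne_bot_of_le_ne_bot Q0 h5))
  have hn : K ≤ 𝐍(Op p (⊤ : Subgroup G)) := le_top.trans (Op_normal _ _).norm
  obtain ⟨a, _, e⟩ := h.exists_Op (K := K) (ne_bot_of_prime_dvd hq.out
    ((hK.dvd_card_iff hq.out l.pq.symm).2 l.dq))
  rcases mem3 l hK e with rfl | rfl | rfl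
  exacts [h.B1 l hK (Op_isPGroup p ⊤) hn hF e, h.B1 l.s23 hK (Op_isPGroup p ⊤) hn hF e,
    h.B1 l.s34.s23 hK (Op_isPGroup p ⊤) hn hF e]

theorem main (l : Lab G p q r s) : False := by
  obtain ⟨a, _, e⟩ := h.exists_Op (K := ⊤) (ne_bot_of_prime_dvd hq.out l.dq)
  rcases l.mem (Op_isPGroup a ⊤) e with rfl | rfl | rfl | rfl
  exacts [e (h.main0 l), e (h.main0 l.s12), e (h.main0 l.s23.s12), e (h.main0 l.s34.s23.s12)]

end Cf

end Cfsg.Agent.Wal.K4
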